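import Mathlib

/-!
# Carmichael's presentation of the alternating group

Elements `y i` (`i : I`) with `y i ^ 3 = 1` and `(y i * y j) ^ 2 = 1` for `i ≠ j` give a homomorphism from
the alternating group on `I ⊕ Bool` sending the three-cycle through the two extra points and `i` to `y i`.
-/

set_option autoImplicit false
set_option linter.unusedSectionVars false
set_option linter.style.haveILetI false
set_option linter.unusedSimpArgs false

namespace Cfsg.Lib.PresSymAlt

open Equiv Equiv.Perm

/-- Carmichael's relations. -/
structure CarRel {I G : Type*} [Group G] (y : I → G) : Prop where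
  cube : ∀ i, y i ^ 3 = 1
  pair : ∀ i j, i ≠ j → (y i * y j) ^ 2 = 1

section Bound

variable {I G : Type*} [Group G] {y : I → G} (h : CarRel y)

include h

theorem CarRel.mul_self (i : I) : y i * y i = (y i)⁻¹ := by
  rw [eq_inv_iff_mul_eq_one, ← h.cube i]
  simp [pow_succ]

theorem CarRel.inv_mul_inv {i j : I} (hij : i ≠ j) : (y i)⁻¹ * (y j)⁻¹ = y j * y i := by
  have h2 : y j * y i * (y j * y i) = 1 := by rw [← pow_two]; exact h.pair j i hij.symm
  exact ((mul_eq_one_iff_eq_inv.1 h2).trans (mul_inv_rev _ _)).symm

theorem CarRel.swap_mul {i j : I} (hij : i ≠ j) : y i * y j = (y j)⁻¹ * (y i)⁻¹ :=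
  (h.inv_mul_inv hij.symm).symm

theorem CarRel.closure_finite [DecidableEq I] (s : Finset I) :
    Finite (Subgroup.closure (y '' ↑s)) ∧
      2 * Nat.card (Subgroup.closure (y '' ↑s)) ≤ (s.card + 2).factorial := by
  induction s using Finset.induction_on with
  | empty =>
    rw [Finset.coe_empty, Set.image_empty, Subgroup.closure_empty]
    exact ⟨inferInstance, by simp⟩
  | @insert k s hk ih =>
    obtain ⟨hfin, hcard⟩ := ih
    set H := Subgroup.closure (y '' ↑s) with hH
    have hy : ∀ i ∈ s, y i ∈ H := fun i hi => Subgroup.subset_closure ⟨i, hi, rfl⟩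
    let r : Fin 3 ⊕ {i // i ∈ s} → G :=
      Sum.elim ![1, y k, (y k)⁻¹] (fun i => (y k)⁻¹ * y i)
    let f : H × (Fin 3 ⊕ {i // i ∈ s}) → G := fun q => (q.1 : G) * r q.2
    have hmk : ∀ a ∈ H, ∀ t, a * r t ∈ Set.range f := fun a ha t => ⟨(⟨a, ha⟩, t), rfl⟩
    have hstep : ∀ g ∈ Set.range f, ∀ j ∈ insert k s, g * y j ∈ Set.range f := by
      rintro _ ⟨⟨a, t⟩, rfl⟩ j hj
      show (a : G) * r t * y j ∈ _
      rw [mul_assoc]
      rw [Finset.mem_insert] at hj
      rcases t with t | ⟨i, hi⟩
      · fin_cases t
        · show (a : G) * (1 * y j) ∈ _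
          rw [one_mul]
          rcases hj with rfl | hj
          · exact hmk a a.2 (.inl 1)
          · have := hmk _ (mul_mem a.2 (hy j hj)) (.inl 0)
            simpa [r] using this
        · show (a : G) * (y k * y j) ∈ _
          rcases hj with rfl | hj
          · rw [h.mul_self]; exact hmk a a.2 (.inl 2)
          · have hne : k ≠ j := fun e => hk (e ▸ hj)
            rw [h.swap_mul hne, ← mul_assoc]
            exact hmk _ (mul_mem a.2 (inv_mem (hy j hj))) (.inl 2)
        · show (a : G) * ((y k)⁻¹ * y j) ∈ _
          rcases hj with rfl | hj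
          · rw [inv_mul_cancel]; exact hmk a a.2 (.inl 0)
          · exact hmk a a.2 (.inr ⟨j, hj⟩)
      · have hne : k ≠ i := fun e => hk (e ▸ hi)
        show (a : G) * ((y k)⁻¹ * y i * y j) ∈ _
        rcases hj with rfl | hj
        · have e : (y j)⁻¹ * y i * y j = (y i)⁻¹ * ((y j)⁻¹ * y i) := by
            calc (y j)⁻¹ * y i * y j = (y j)⁻¹ * (y i * y j) := mul_assoc _ _ _
              _ = ((y j)⁻¹ * (y j)⁻¹) * (y i)⁻¹ := by rw [h.swap_mul hne.symm, mul_assoc]
              _ = y j * (y i * y i) := by
                rw [h.mul_self i, ← mul_inv_rev, h.mul_self j, inv_inv]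
              _ = _ := by rw [← mul_assoc, h.swap_mul hne, mul_assoc]
          rw [e, ← mul_assoc]
          exact hmk _ (mul_mem a.2 (inv_mem (hy i hi))) (.inr ⟨i, hi⟩)
        · by_cases hij : i = j
          · subst hij
            rw [mul_assoc (y k)⁻¹, h.mul_self, h.inv_mul_inv hne, ← mul_assoc]
            exact hmk _ (mul_mem a.2 (hy i hi)) (.inl 1)
          · have hkj : k ≠ j := fun e => hk (e ▸ hj)
            have e : (y k)⁻¹ * y i * y j = y j * (y i)⁻¹ * ((y k)⁻¹ * y i) := by
              calc (y k)⁻¹ * y i * y j = (y k)⁻¹ * (y i * y j) := mul_assoc _ _ _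
                _ = (y k)⁻¹ * (y j)⁻¹ * (y i)⁻¹ := by rw [h.swap_mul hij, mul_assoc]
                _ = y j * (y k * (y i * y i)) := by rw [h.inv_mul_inv hkj, h.mul_self i, mul_assoc]
                _ = _ := by rw [← mul_assoc (y k), h.swap_mul hne]; simp only [mul_assoc]
            rw [e, ← mul_assoc]
            exact hmk _ (mul_mem a.2 (mul_mem (hy j hj) (inv_mem (hy i hi)))) (.inr ⟨i, hi⟩)
    have hsub : ∀ g ∈ Subgroup.closure (y '' ↑(insert k s)), g ∈ Set.range f := by
      intro g hg
      induction hg using Subgroup.closure_induction_right with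
      | one => exact ⟨(1, .inl 0), by simp [f, r]⟩
      | mul_right a z ha hz iha =>
        obtain ⟨j, hj, rfl⟩ := hz
        exact hstep a iha j hj
      | mul_inv_cancel a z ha hz iha =>
        obtain ⟨j, hj, rfl⟩ := hz
        rw [← h.mul_self j, ← mul_assoc]
        exact hstep _ (hstep a iha j hj) j hj
    have hr : (Set.range f).Finite := Set.finite_range f
    refine ⟨(hr.subset hsub).to_subtype, ?_⟩
    have h1 : Nat.card (Subgroup.closure (y '' ↑(insert k s))) ≤ Nat.card H * (s.card + 3) := by
      refine ((Nat.card_mono hr hsub).trans (Finite.card_range_le f)).trans ?_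
      rw [Nat.card_prod, Nat.card_sum, Nat.card_fin, Nat.card_eq_fintype_card (α := {i // i ∈ s}),
        Fintype.card_coe, add_comm 3]
    calc 2 * Nat.card (Subgroup.closure (y '' ↑(insert k s))) ≤ (2 * Nat.card H) * (s.card + 3) := by
          rw [mul_assoc]; exact Nat.mul_le_mul_left 2 h1
      _ ≤ (s.card + 2).factorial * (s.card + 3) := Nat.mul_le_mul_right _ hcard
      _ = _ := by
        rw [Finset.card_insert_of_notMem hk, mul_comm]
        exact (Nat.factorial_succ _).symm

end Bound

variable {I : Type*} [DecidableEq I] [Fintype I]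

/-- The three-cycle through the two extra points and `i`. -/
def tri (i : I) : Perm (I ⊕ Bool) := swap (.inr false) (.inr true) * swap (.inr true) (.inl i)

theorem tri_apply (i : I) : ∀ z : I ⊕ Bool, tri i z =
    if z = .inl i then .inr false else if z = .inr false then .inr true else if z = .inr true then .inl i else z := by
  intro z
  rcases z with j | b
  · by_cases hj : j = i
    · subst hj; simp [tri]
    · simp [tri, hj, Equiv.swap_apply_def]
  · cases b <;> simp [tri, Equiv.swap_apply_def]

theorem tri_mem (i : I) : tri i ∈ alternatingGroup (I ⊕ Bool) := by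
  rw [mem_alternatingGroup, tri, map_mul, sign_swap (by simp), sign_swap (by simp)]
  rfl

theorem tri_carRel : CarRel (tri (I := I)) := by
  refine ⟨fun i => ?_, fun i j hij => ?_⟩
  · apply Equiv.ext; intro z
    simp only [pow_succ, pow_zero, one_mul, Perm.mul_apply, Perm.one_apply]
    rcases z with k | b
    · by_cases hk : k = i
      · subst hk; simp [tri_apply]
      · simp [tri_apply, hk]
    · cases b <;> simp [tri_apply]
  · apply Equiv.ext; intro z
    simp only [pow_succ, pow_zero, one_mul, Perm.mul_apply, Perm.one_apply]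
    rcases z with k | b
    · by_cases hk : k = i
      · subst hk; simp [tri_apply, hij, hij.symm]
      · by_cases hk' : k = j
        · subst hk'; simp [tri_apply, hij, hij.symm]
        · simp [tri_apply, hk, hk']
    · cases b <;> simp [tri_apply, hij, hij.symm]

theorem closure_tri [Nonempty I] :
    Subgroup.closure (Set.range (tri (I := I))) = alternatingGroup (I ⊕ Bool) := by
  set H := Subgroup.closure (Set.range (tri (I := I))) with hH
  have hle : H ≤ alternatingGroup (I ⊕ Bool) := (Subgroup.closure_le _).2 (by rintro _ ⟨i, rfl⟩; exact tri_mem i)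
  have ht : ∀ i, tri i ∈ H := fun i => Subgroup.subset_closure ⟨i, rfl⟩
  set σ : Perm (I ⊕ Bool) := swap (.inr false) (.inr true) with hσ
  have hσσ : σ * σ = 1 := swap_mul_self _ _
  have key : ∀ a b : I ⊕ Bool, a ≠ b → σ * swap a b ∈ H := by
    have h1 : ∀ i, σ * swap (.inr true) (.inl i) ∈ H := fun i => ht i
    have h2 : ∀ i, σ * swap (.inr false) (.inl i) ∈ H := by
      intro i
      have e : σ * swap (.inr false) (.inl i) = (tri i)⁻¹ := by
        rw [eq_inv_iff_mul_eq_one]
        apply Equiv.ext; intro z
        simp only [Perm.mul_apply, Perm.one_apply, hσ]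
        rcases z with k | b
        · by_cases hk : k = i
          · subst hk; simp [tri_apply, Equiv.swap_apply_def]
          · simp [tri_apply, hk, Equiv.swap_apply_def]
        · cases b <;> simp [tri_apply, Equiv.swap_apply_def]
      rw [e]; exact inv_mem (ht i)
    have h3 : ∀ i j, i ≠ j → σ * swap (Sum.inl i) (.inl j) ∈ H := by
      intro i j hij
      have e : σ * swap (Sum.inl i) (.inl j) = tri i * tri i * tri j * (tri i)⁻¹ := by
        rw [eq_mul_inv_iff_mul_eq]
        apply Equiv.ext; intro z
        simp only [Perm.mul_apply, hσ]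
        rcases z with k | b
        · by_cases hk : k = i
          · subst hk; simp [tri_apply, hij, hij.symm, Equiv.swap_apply_def]
          · by_cases hk' : k = j
            · subst hk'; simp [tri_apply, hij, hij.symm, Equiv.swap_apply_def]
            · simp [tri_apply, hk, hk', Equiv.swap_apply_def]
        · cases b <;> simp [tri_apply, hij, hij.symm, Equiv.swap_apply_def]
      rw [e]; exact mul_mem (mul_mem (mul_mem (ht i) (ht i)) (ht j)) (inv_mem (ht i))
    intro a b hab
    rcases a with i | a <;> rcases b with j | b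
    · exact h3 i j (fun e => hab (by rw [e]))
    · rw [swap_comm]; cases b; exacts [h2 i, h1 i]
    · cases a; exacts [h2 j, h1 j]
    · cases a <;> cases b
      · exact absurd rfl hab
      · rw [hσσ]; exact one_mem _
      · rw [swap_comm, hσσ]; exact one_mem _
      · exact absurd rfl hab
  refine le_antisymm hle fun g hg => ?_
  have hall : ∀ g : Perm (I ⊕ Bool), g ∈ H ∨ g * σ ∈ H := by
    intro g
    induction g using Equiv.Perm.swap_induction_on' with
    | one => exact Or.inl (one_mem _)
    | mul_swap f a b hab ih =>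
      rcases ih with ih | ih
      · refine Or.inr ?_
        have := mul_mem ih (inv_mem (key a b hab))
        rwa [mul_inv_rev, swap_inv, swap_inv, ← mul_assoc] at this
      · refine Or.inl ?_
        have := mul_mem ih (key a b hab)
        rwa [mul_assoc f, ← mul_assoc σ, hσσ, one_mul] at this
  refine (hall g).resolve_right fun h => ?_
  have h1 := hle h
  rw [mem_alternatingGroup, map_mul, mem_alternatingGroup.1 hg, one_mul, sign_swap (by simp)] at h1
  exact absurd h1 (by decide)

theorem carmichael [Nonempty I] {G : Type*} [Group G] {y : I → G} (h : CarRel y) :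
    ∃ ψ : ↥(alternatingGroup (I ⊕ Bool)) →* G, (∀ i, ψ ⟨tri i, tri_mem i⟩ = y i) ∧
      ψ.range ≤ Subgroup.closure (Set.range y) := by
  classical
  let A := alternatingGroup (I ⊕ Bool)
  let z : I → ↥A × G := fun i => (⟨tri i, tri_mem i⟩, y i)
  have hz : CarRel z := by
    refine ⟨fun i => Prod.ext (Subtype.ext ?_) (h.cube i), fun i j hij => Prod.ext (Subtype.ext ?_) (h.pair i j hij)⟩
    · simpa [z] using (tri_carRel (I := I)).cube i
    · simpa [z] using (tri_carRel (I := I)).pair i j hij
  obtain ⟨hfin, hcard⟩ := hz.closure_finite (Finset.univ : Finset I)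
  rw [Finset.coe_univ, Set.image_univ, Finset.card_univ] at hcard
  rw [Finset.coe_univ, Set.image_univ] at hfin
  set K := Subgroup.closure (Set.range z) with hK
  let pr : ↥K →* ↥A := (MonoidHom.fst ↥A G).comp K.subtype
  have hsurj : Function.Surjective pr := by
    rw [← MonoidHom.range_eq_top]
    refine Subgroup.map_injective A.subtype_injective ?_
    rw [MonoidHom.map_range, ← MonoidHom.range_eq_map, Subgroup.range_subtype]
    refine le_antisymm ?_ ?_
    · rintro _ ⟨q, rfl⟩; exact (pr q).2
    · show alternatingGroup (I ⊕ Bool) ≤ _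
      rw [← closure_tri, Subgroup.closure_le]
      rintro _ ⟨i, rfl⟩
      exact ⟨⟨z i, Subgroup.subset_closure ⟨i, rfl⟩⟩, rfl⟩
  haveI : Nontrivial (I ⊕ Bool) := ⟨⟨.inr false, .inr true, by simp⟩⟩
  have hA : 2 * Nat.card ↥A = (Fintype.card I + 2).factorial := by
    rw [Nat.card_eq_fintype_card, two_mul_card_alternatingGroup, Fintype.card_perm, Fintype.card_sum,
      Fintype.card_bool]
  have hbij : Function.Bijective pr := by
    rw [Nat.bijective_iff_surjective_and_card]
    refine ⟨hsurj, ?_⟩
    have := Nat.card_le_card_of_surjective pr hsurj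
    omega
  let e := MulEquiv.ofBijective pr hbij
  refine ⟨((MonoidHom.snd ↥A G).comp K.subtype).comp e.symm.toMonoidHom, fun i => ?_, ?_⟩
  · have : e.symm ⟨tri i, tri_mem i⟩ = ⟨z i, Subgroup.subset_closure ⟨i, rfl⟩⟩ := by
      rw [MulEquiv.symm_apply_eq]; rfl
    simp only [MonoidHom.coe_comp, MulEquiv.coe_toMonoidHom, Function.comp_apply, this]
    rfl
  · rintro _ ⟨q, rfl⟩
    show ((e.symm q : ↥K) : ↥A × G).2 ∈ _
    have hm : (Subgroup.closure (Set.range z)).map (MonoidHom.snd ↥A G) = Subgroup.closure (Set.range y) := by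
      rw [MonoidHom.map_closure, ← Set.range_comp]; rfl
    rw [← hm]
    exact Subgroup.mem_map_of_mem _ (e.symm q).2

/-- Two homomorphisms out of the alternating group agreeing on the three-cycles are equal. -/
theorem hom_ext_tri [Nonempty I] {G : Type*} [Group G] {f g : ↥(alternatingGroup (I ⊕ Bool)) →* G}
    (h : ∀ i, f ⟨tri i, tri_mem i⟩ = g ⟨tri i, tri_mem i⟩) : f = g := by
  have hcl : Subgroup.closure (Set.range fun i : I => (⟨tri i, tri_mem i⟩ : ↥(alternatingGroup (I ⊕ Bool)))) = ⊤ := by
    refine Subgroup.map_injective (alternatingGroup (I ⊕ Bool)).subtype_injective ?_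
    rw [MonoidHom.map_closure, ← Set.range_comp, ← MonoidHom.range_eq_map, Subgroup.range_subtype]
    exact closure_tri
  refine MonoidHom.eq_of_eqOn_dense hcl ?_
  rintro _ ⟨i, rfl⟩
  exact h i

end Cfsg.Lib.PresSymAlt
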