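import Cfsg.Agent.Lib.PresSymAlt.Main

/-!
# The choice of the prime and the degree
-/

set_option autoImplicit false
set_option linter.style.haveILetI false

namespace Cfsg.Lib.PresSymAlt

open Equiv Equiv.Perm

theorem exists_params {N : ℕ} (hN : 3 ≤ N) : ∃ p : ℕ, p.Prime ∧ 3 ≤ p ∧ p ≤ N ∧ N + 2 ≤ 2 * p := by
  obtain ⟨p, hp, hlt, hle⟩ := Nat.exists_prime_lt_and_le_two_mul ((N + 1) / 2) (by omega)
  obtain ⟨t, ht⟩ := hp.odd_of_ne_two (by omega)
  exact ⟨p, hp, by omega, by omega, by omega⟩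

theorem exists_parity (N : ℕ) [NeZero N] (u : ℤˣ) : ∃ ε, sign (gam N ε) = u := by
  rcases Int.units_eq_one_or ((-1 : ℤˣ) ^ (N - 1)) with h | h <;> rcases Int.units_eq_one_or u with rfl | rfl
  · exact ⟨false, by rw [sign_gam, h]; rfl⟩
  · exact ⟨true, by rw [sign_gam, h]; rfl⟩
  · exact ⟨true, by rw [sign_gam, h]; rfl⟩
  · exact ⟨false, by rw [sign_gam, h]; rfl⟩

theorem pres3_alt {n : ℕ} (hn : 5 ≤ n) : Pres3 ↥(alternatingGroup (Fin n)) := by
  obtain ⟨N, rfl⟩ : ∃ N, n = N + 2 := ⟨n - 2, by omega⟩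
  haveI : NeZero N := ⟨by omega⟩
  obtain ⟨p, hp, h3, hpN, h2p⟩ := exists_params (N := N) (by omega)
  haveI : Fact p.Prime := ⟨hp⟩
  obtain ⟨ε, hε⟩ := exists_parity N 1
  have h := pres3_perm (p := p) hpN h3 (e := 1) (Or.inl rfl) (by omega) ε (by rw [if_pos rfl]; exact hε)
  exact (h.congr (MulEquiv.subgroupCongr (if_pos rfl))).congr
    (Equiv.altCongrHom (Fintype.equivFinOfCardEq (by simp)))

theorem pres3_sym {n : ℕ} (hn : 5 ≤ n) : Pres3 (Perm (Fin n)) := by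
  obtain ⟨N, rfl⟩ : ∃ N, n = N + 2 := ⟨n - 2, by omega⟩
  haveI : NeZero N := ⟨by omega⟩
  obtain ⟨p, hp, h3, hpN, h2p⟩ := exists_params (N := N) (by omega)
  haveI : Fact p.Prime := ⟨hp⟩
  obtain ⟨ε, hε⟩ := exists_parity N (-1)
  have h := pres3_perm (p := p) hpN h3 (e := 2) (Or.inr rfl) (by omega) ε (by rw [if_neg (by omega)]; exact hε)
  exact (h.congr ((MulEquiv.subgroupCongr (if_neg (by omega))).trans Subgroup.topEquiv)).congr
    (Fintype.equivFinOfCardEq (by simp)).permCongrHom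

end Cfsg.Lib.PresSymAlt
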