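import Cfsg.Agent.Lib.PresSymAlt.Perms

/-!
# Presentations of the symmetric and alternating groups of degree at most four
-/

set_option autoImplicit false
set_option linter.unusedSectionVars false
set_option linter.style.haveILetI false

namespace Cfsg.Lib.PresSymAlt

open Equiv Equiv.Perm

variable {I : Type*} [DecidableEq I] [Fintype I] [Nonempty I]

/-- A group generated by a Carmichael family, mapping onto the three-cycles, is the alternating group. -/
theorem alt_iso_of_carRel {G : Type*} [Group G] (f : G →* ↥(alternatingGroup (I ⊕ Bool))) {y : I → G}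
    (hy : CarRel y) (hfy : ∀ i, f (y i) = ⟨tri i, tri_mem i⟩) (hgen : Subgroup.closure (Set.range y) = ⊤) :
    Nonempty (G ≃* ↥(alternatingGroup (I ⊕ Bool))) := by
  obtain ⟨ψ, hψ, -⟩ := carmichael hy
  refine ⟨MonoidHom.toMulEquiv f ψ ?_ ?_⟩
  · refine MonoidHom.eq_of_eqOn_dense hgen ?_
    rintro _ ⟨i, rfl⟩
    simp [hfy, hψ]
  · exact hom_ext_tri fun i => by simp [hfy, hψ]

/-- A group generated by a Carmichael family and an odd involution normalising it is the symmetric group. -/
theorem bijective_of_carRel {G : Type*} [Group G] (π : G →* Perm (I ⊕ Bool)) {y : I → G} (hy : CarRel y)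
    (hπy : ∀ i, π (y i) = tri i) (c : G) (hc2 : c * c = 1) (hodd : sign (π c) = -1)
    (hconj : ∀ i, c * y i * c ∈ Subgroup.closure (Set.range y))
    (hgen : Subgroup.closure (insert c (Set.range y)) = ⊤) : Function.Bijective π := by
  obtain ⟨ψ, hψ, hψK⟩ := carmichael hy
  set K := Subgroup.closure (Set.range y) with hK
  have hKψ : K = ψ.range := le_antisymm ((Subgroup.closure_le _).2 (by rintro _ ⟨i, rfl⟩; exact ⟨_, hψ i⟩)) hψK
  have hπψ : ∀ a, π (ψ a) = (a : Perm (I ⊕ Bool)) := DFunLike.congr_fun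
    (hom_ext_tri (f := π.comp ψ) (g := (alternatingGroup (I ⊕ Bool)).subtype) fun i => by simp [hψ, hπy])
  have hci : c⁻¹ = c := inv_eq_of_mul_eq_one_right hc2
  have hcK : ∀ g ∈ K, c * g * c ∈ K := by
    intro g hg
    have : K.map (MulAut.conj c).toMonoidHom ≤ K := by
      rw [hK, MonoidHom.map_closure, Subgroup.closure_le]
      rintro _ ⟨_, ⟨i, rfl⟩, rfl⟩
      simpa [hci] using hconj i
    simpa [hci] using this (Subgroup.mem_map_of_mem _ hg)
  have hall : ∀ g : G, g ∈ K ∨ g * c ∈ K := by
    intro g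
    have hg : g ∈ Subgroup.closure (insert c (Set.range y)) := by rw [hgen]; trivial
    induction hg using Subgroup.closure_induction with
    | mem x hx =>
      rcases hx with rfl | hx
      · exact Or.inr (by rw [hc2]; exact one_mem _)
      · exact Or.inl (Subgroup.subset_closure hx)
    | one => exact Or.inl (one_mem _)
    | mul a b _ _ ha hb =>
      rcases ha with ha | ha <;> rcases hb with hb | hb
      · exact Or.inl (mul_mem ha hb)
      · exact Or.inr (by rw [mul_assoc]; exact mul_mem ha hb)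
      · refine Or.inr ?_
        have h := mul_mem ha (hcK b hb)
        rwa [show a * c * (c * b * c) = a * (c * c) * b * c by group, hc2, mul_one] at h
      · refine Or.inl ?_
        have h := mul_mem ha (hcK _ hb)
        rwa [show a * c * (c * (b * c) * c) = a * (c * c) * b * (c * c) by group, hc2, mul_one, mul_one] at h
    | inv a _ ha =>
      rcases ha with ha | ha
      · exact Or.inl (inv_mem ha)
      · refine Or.inr ?_
        have h := hcK _ (inv_mem ha)
        rwa [mul_inv_rev, hci, ← mul_assoc, hc2, one_mul] at h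
  have hKA : ∀ g ∈ K, sign (π g) = 1 := by
    intro g hg
    rw [hKψ] at hg
    obtain ⟨a, rfl⟩ := hg
    rw [hπψ]
    exact a.2
  refine ⟨(injective_iff_map_eq_one π).2 fun g hg => ?_, fun f => ?_⟩
  · rcases hall g with h | h
    · rw [hKψ] at h
      obtain ⟨a, rfl⟩ := h
      rw [hπψ] at hg
      rw [show a = 1 from Subtype.ext hg, map_one]
    · have := hKA _ h
      rw [map_mul, hg, one_mul, hodd] at this
      exact absurd this (by decide)
  · rcases Int.units_eq_one_or (sign f) with h | h
    · exact ⟨ψ ⟨f, h⟩, hπψ _⟩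
    · refine ⟨ψ ⟨f * π c, ?_⟩ * c, ?_⟩
      · rw [Perm.mem_alternatingGroup, map_mul, h, hodd]; rfl
      · rw [map_mul, hπψ]
        show f * π c * π c = f
        rw [mul_assoc, ← map_mul, hc2, map_one, mul_one]

/-- A presentation on two generators with at most eight relations. -/
def Pres2 (T : Type*) [Group T] : Prop :=
  ∃ R : Finset (FreeGroup (Fin 2)), R.card ≤ 8 ∧
    Nonempty (PresentedGroup (↑R : Set (FreeGroup (Fin 2))) ≃* T)

theorem Pres2.congr {T T' : Type*} [Group T] [Group T'] (h : Pres2 T) (e : T ≃* T') : Pres2 T' := by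
  obtain ⟨R, hR, ⟨φ⟩⟩ := h
  exact ⟨R, hR, ⟨φ.trans e⟩⟩

theorem card_le_eight {α : Type*} [DecidableEq α] (a b c : α) : ({a, b, c} : Finset α).card ≤ 8 :=
  Finset.card_le_three.trans (by norm_num)

theorem pres2_subsingleton {T : Type*} [Group T] [Subsingleton T] : Pres2 T := by
  let R : Finset (FreeGroup (Fin 2)) := {FreeGroup.of 0, FreeGroup.of 1}
  let π : PresentedGroup (↑R : Set (FreeGroup (Fin 2))) →* T := 1
  refine ⟨R, Finset.card_le_two.trans (by norm_num), ⟨MonoidHom.toMulEquiv π 1 ?_ (MonoidHom.ext fun t => Subsingleton.elim _ _)⟩⟩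
  refine PresentedGroup.ext fun i => ?_
  symm
  refine PresentedGroup.one_of_mem ?_
  fin_cases i <;> simp [R]

theorem pres2_perm_two : Pres2 (Perm (Fin 2)) := by
  let X : FreeGroup (Fin 2) := FreeGroup.of 0
  let R : Finset (FreeGroup (Fin 2)) := {X ^ 2, FreeGroup.of 1}
  have hrels : ∀ r ∈ (↑R : Set (FreeGroup (Fin 2))), FreeGroup.lift ![swap (0 : Fin 2) 1, 1] r = 1 := by
    intro r hr
    simp only [R, X, Finset.coe_insert, Finset.coe_singleton, Set.mem_insert_iff, Set.mem_singleton_iff] at hr
    rcases hr with rfl | rfl <;> simp [pow_two]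
  let x := PresentedGroup.of (rels := (↑R : Set (FreeGroup (Fin 2)))) 0
  have hx : x * x = 1 := by
    have h := PresentedGroup.one_of_mem (rels := (↑R : Set (FreeGroup (Fin 2)))) (x := X ^ 2) (by simp [R])
    rw [map_pow, pow_two] at h
    exact h
  have hy : PresentedGroup.of (rels := (↑R : Set (FreeGroup (Fin 2)))) 1 = 1 :=
    PresentedGroup.one_of_mem (by simp [R])
  have hcases : ∀ σ : Perm (Fin 2), σ = 1 ∨ σ = swap 0 1 := by decide
  have hne : swap (0 : Fin 2) 1 ≠ 1 := by decide
  let g : Perm (Fin 2) →* PresentedGroup (↑R : Set (FreeGroup (Fin 2))) :=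
    MonoidHom.mk' (fun σ => if σ = 1 then 1 else x) fun a b => by
      rcases hcases a with rfl | rfl <;> rcases hcases b with rfl | rfl <;> simp [hne, hx]
  refine ⟨R, Finset.card_le_two.trans (by norm_num), ⟨MonoidHom.toMulEquiv (PresentedGroup.toGroup hrels) g ?_ ?_⟩⟩
  · refine PresentedGroup.ext fun i => ?_
    fin_cases i
    · simp [g, hne, x]
    · simp [g, hy]
  · refine MonoidHom.ext fun σ => ?_
    rcases hcases σ with rfl | rfl
    · simp
    · simp [g, hne, x]

theorem pres2_alt_one : Pres2 ↥(alternatingGroup (Fin 1 ⊕ Bool)) := by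
  let X : FreeGroup (Fin 2) := FreeGroup.of 0
  let R : Finset (FreeGroup (Fin 2)) := {X ^ 3, FreeGroup.of 1}
  have hrels : ∀ r ∈ (↑R : Set (FreeGroup (Fin 2))),
      FreeGroup.lift ![(⟨tri 0, tri_mem 0⟩ : ↥(alternatingGroup (Fin 1 ⊕ Bool))), 1] r = 1 := by
    intro r hr
    simp only [R, X, Finset.coe_insert, Finset.coe_singleton, Set.mem_insert_iff, Set.mem_singleton_iff] at hr
    rcases hr with rfl | rfl
    · simp only [map_pow, FreeGroup.lift_apply_of, Matrix.cons_val_zero]
      exact Subtype.ext ((tri_carRel (I := Fin 1)).cube 0)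
    · simp
  refine ⟨R, Finset.card_le_two.trans (by norm_num),
    alt_iso_of_carRel (PresentedGroup.toGroup hrels) (y := fun _ => PresentedGroup.of 0) ⟨fun _ => ?_, ?_⟩ ?_ ?_⟩
  · have h := PresentedGroup.one_of_mem (rels := (↑R : Set (FreeGroup (Fin 2)))) (x := X ^ 3) (by simp [R])
    rwa [map_pow] at h
  · exact fun i j hij => absurd (Subsingleton.elim i j) hij
  · intro i
    rw [PresentedGroup.toGroup.of, Subsingleton.elim i 0]
    simp
  · rw [eq_top_iff, ← PresentedGroup.closure_range_of, Subgroup.closure_le]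
    rintro _ ⟨j, rfl⟩
    fin_cases j
    · exact Subgroup.subset_closure ⟨0, rfl⟩
    · have h : PresentedGroup.of (rels := (↑R : Set (FreeGroup (Fin 2)))) 1 = 1 :=
        PresentedGroup.one_of_mem (by simp [R])
      exact h ▸ one_mem _

theorem pres2_alt_two : Pres2 ↥(alternatingGroup (Fin 2 ⊕ Bool)) := by
  let X : FreeGroup (Fin 2) := FreeGroup.of 0
  let Y : FreeGroup (Fin 2) := FreeGroup.of 1
  let R : Finset (FreeGroup (Fin 2)) := {X ^ 3, Y ^ 3, (X * Y) ^ 2}
  have hrels : ∀ r ∈ (↑R : Set (FreeGroup (Fin 2))),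
      FreeGroup.lift (fun i => (⟨tri i, tri_mem i⟩ : ↥(alternatingGroup (Fin 2 ⊕ Bool)))) r = 1 := by
    intro r hr
    simp only [R, X, Y, Finset.coe_insert, Finset.coe_singleton, Set.mem_insert_iff, Set.mem_singleton_iff] at hr
    rcases hr with rfl | rfl | rfl <;> simp only [map_pow, map_mul, FreeGroup.lift_apply_of]
    · exact Subtype.ext ((tri_carRel (I := Fin 2)).cube 0)
    · exact Subtype.ext ((tri_carRel (I := Fin 2)).cube 1)
    · exact Subtype.ext ((tri_carRel (I := Fin 2)).pair 0 1 (by decide))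
  refine ⟨R, card_le_eight _ _ _,
    alt_iso_of_carRel (PresentedGroup.toGroup hrels) (y := PresentedGroup.of) ⟨?_, ?_⟩ ?_ ?_⟩
  · intro i
    fin_cases i
    · have h := PresentedGroup.one_of_mem (rels := (↑R : Set (FreeGroup (Fin 2)))) (x := X ^ 3) (by simp [R])
      rwa [map_pow] at h
    · have h := PresentedGroup.one_of_mem (rels := (↑R : Set (FreeGroup (Fin 2)))) (x := Y ^ 3) (by simp [R])
      rwa [map_pow] at h
  · have h := PresentedGroup.one_of_mem (rels := (↑R : Set (FreeGroup (Fin 2)))) (x := (X * Y) ^ 2) (by simp [R])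
    rw [map_pow, map_mul, pow_two] at h
    intro i j hij
    fin_cases i <;> fin_cases j
    · exact absurd rfl hij
    · rw [pow_two]; exact h
    · rw [pow_two]
      show PresentedGroup.mk (↑R : Set (FreeGroup (Fin 2))) Y * PresentedGroup.mk _ X *
        (PresentedGroup.mk _ Y * PresentedGroup.mk _ X) = 1
      rw [mul_eq_one_comm, ← mul_assoc] at h
      have h' := congrArg (fun g => (PresentedGroup.mk (↑R : Set (FreeGroup (Fin 2))) X)⁻¹ * g *
        PresentedGroup.mk (↑R : Set (FreeGroup (Fin 2))) X) h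
      simpa [mul_assoc] using h'
    · exact absurd rfl hij
  · exact fun i => PresentedGroup.toGroup.of _
  · exact PresentedGroup.closure_range_of _

theorem pres2_perm_one : Pres2 (Perm (Fin 1 ⊕ Bool)) := by
  let X : FreeGroup (Fin 2) := FreeGroup.of 0
  let C : FreeGroup (Fin 2) := FreeGroup.of 1
  let R : Finset (FreeGroup (Fin 2)) := {X ^ 3, C ^ 2, C * X * C * X}
  let d : Perm (Fin 1 ⊕ Bool) := Equiv.sumCongr 1 (bs true)
  have hrels : ∀ r ∈ (↑R : Set (FreeGroup (Fin 2))), FreeGroup.lift ![tri (0 : Fin 1), d] r = 1 := by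
    intro r hr
    simp only [R, X, C, Finset.coe_insert, Finset.coe_singleton, Set.mem_insert_iff, Set.mem_singleton_iff] at hr
    rcases hr with rfl | rfl | rfl <;>
      simp only [map_pow, map_mul, FreeGroup.lift_apply_of, Matrix.cons_val_zero, Matrix.cons_val_one, d] <;> decide
  let x := PresentedGroup.of (rels := (↑R : Set (FreeGroup (Fin 2)))) 0
  let c := PresentedGroup.of (rels := (↑R : Set (FreeGroup (Fin 2)))) 1
  have hx : x ^ 3 = 1 := by
    have h := PresentedGroup.one_of_mem (rels := (↑R : Set (FreeGroup (Fin 2)))) (x := X ^ 3) (by simp [R])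
    rwa [map_pow] at h
  have hc : c * c = 1 := by
    have h := PresentedGroup.one_of_mem (rels := (↑R : Set (FreeGroup (Fin 2)))) (x := C ^ 2) (by simp [R])
    rwa [map_pow, pow_two] at h
  have hcx : c * x * c * x = 1 := by
    have h := PresentedGroup.one_of_mem (rels := (↑R : Set (FreeGroup (Fin 2)))) (x := C * X * C * X) (by simp [R])
    rwa [map_mul, map_mul, map_mul] at h
  have hb := bijective_of_carRel (PresentedGroup.toGroup hrels) (y := fun _ : Fin 1 => x)
    ⟨fun _ => hx, fun i j hij => absurd (Subsingleton.elim i j) hij⟩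
    (fun i => by rw [Subsingleton.elim i 0, PresentedGroup.toGroup.of]; rfl) c hc
    (by rw [PresentedGroup.toGroup.of]; show sign d = -1; simp [d, Perm.sign_sumCongr, sign_bs])
    (fun i => by
      rw [mul_eq_one_iff_eq_inv.1 hcx]
      exact inv_mem (Subgroup.subset_closure ⟨0, rfl⟩))
    (by
      rw [eq_top_iff, ← PresentedGroup.closure_range_of, Subgroup.closure_le]
      rintro _ ⟨j, rfl⟩
      refine Subgroup.subset_closure ?_
      fin_cases j
      · exact Or.inr ⟨0, rfl⟩
      · exact Or.inl rfl)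
  exact ⟨R, card_le_eight _ _ _, ⟨MulEquiv.ofBijective _ hb⟩⟩

theorem pres2_perm_four : Pres2 (Perm (Fin 2 ⊕ Bool)) := by
  let X : FreeGroup (Fin 2) := FreeGroup.of 0
  let C : FreeGroup (Fin 2) := FreeGroup.of 1
  let R : Finset (FreeGroup (Fin 2)) := {X ^ 3, C ^ 2, (X * (C * X * C)) ^ 2}
  let d : Perm (Fin 2 ⊕ Bool) := Equiv.sumCongr (swap 0 1) (bs false)
  have hrels : ∀ r ∈ (↑R : Set (FreeGroup (Fin 2))), FreeGroup.lift ![tri (0 : Fin 2), d] r = 1 := by
    intro r hr
    simp only [R, X, C, Finset.coe_insert, Finset.coe_singleton, Set.mem_insert_iff, Set.mem_singleton_iff] at hr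
    rcases hr with rfl | rfl | rfl <;>
      simp only [map_pow, map_mul, FreeGroup.lift_apply_of, Matrix.cons_val_zero, Matrix.cons_val_one, d] <;> decide
  let x := PresentedGroup.of (rels := (↑R : Set (FreeGroup (Fin 2)))) 0
  let c := PresentedGroup.of (rels := (↑R : Set (FreeGroup (Fin 2)))) 1
  have hx : x ^ 3 = 1 := by
    have h := PresentedGroup.one_of_mem (rels := (↑R : Set (FreeGroup (Fin 2)))) (x := X ^ 3) (by simp [R])
    rwa [map_pow] at h
  have hc : c * c = 1 := by
    have h := PresentedGroup.one_of_mem (rels := (↑R : Set (FreeGroup (Fin 2)))) (x := C ^ 2) (by simp [R])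
    rwa [map_pow, pow_two] at h
  have hci : c⁻¹ = c := inv_eq_of_mul_eq_one_right hc
  have hp : (x * (c * x * c)) ^ 2 = 1 := by
    have h := PresentedGroup.one_of_mem (rels := (↑R : Set (FreeGroup (Fin 2)))) (x := (X * (C * X * C)) ^ 2) (by simp [R])
    simp only [map_pow, map_mul] at h
    exact h
  have hp' : (c * x * c * x) ^ 2 = 1 := by
    have : c * x * c * x = x⁻¹ * (x * (c * x * c)) * x⁻¹⁻¹ := by group
    rw [this, conj_pow, hp]; simp
  have hcube : (c * x * c) ^ 3 = 1 := by
    nth_rw 2 [← hci]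
    rw [conj_pow, hx]; simp [hci, hc]
  have hb := bijective_of_carRel (PresentedGroup.toGroup hrels) (y := ![x, c * x * c])
    ⟨fun i => by fin_cases i <;> first | exact hx | exact hcube,
      fun i j hij => by fin_cases i <;> fin_cases j <;> first | exact absurd rfl hij | exact hp | exact hp'⟩
    (fun i => by
      have h0 : PresentedGroup.toGroup hrels x = tri (0 : Fin 2) := PresentedGroup.toGroup.of _
      have h1 : PresentedGroup.toGroup hrels c = d := PresentedGroup.toGroup.of _
      fin_cases i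
      · exact h0
      · show PresentedGroup.toGroup hrels (c * x * c) = tri 1
        rw [map_mul, map_mul, h0, h1]
        decide) c hc
    (by rw [PresentedGroup.toGroup.of]; show sign d = -1; simp [d, Perm.sign_sumCongr, sign_bs])
    (fun i => by
      fin_cases i
      · exact Subgroup.subset_closure ⟨1, rfl⟩
      · show c * (c * x * c) * c ∈ _
        rw [show c * (c * x * c) * c = (c * c) * x * (c * c) by group, hc, one_mul, mul_one]
        exact Subgroup.subset_closure ⟨0, rfl⟩)
    (by
      rw [eq_top_iff, ← PresentedGroup.closure_range_of, Subgroup.closure_le]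
      rintro _ ⟨j, rfl⟩
      refine Subgroup.subset_closure ?_
      fin_cases j
      · exact Or.inr ⟨0, rfl⟩
      · exact Or.inl rfl)
  exact ⟨R, card_le_eight _ _ _, ⟨MulEquiv.ofBijective _ hb⟩⟩

/-- Degree at most four. -/
theorem pres2_small {n : ℕ} (hn : n ≤ 4) : Pres2 (Perm (Fin n)) ∧ Pres2 ↥(alternatingGroup (Fin n)) := by
  have e3 : Fin 1 ⊕ Bool ≃ Fin 3 := Fintype.equivFinOfCardEq (by simp)
  have e4 : Fin 2 ⊕ Bool ≃ Fin 4 := Fintype.equivFinOfCardEq (by simp)
  interval_cases n
  · exact ⟨pres2_subsingleton, pres2_subsingleton⟩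
  · exact ⟨pres2_subsingleton, pres2_subsingleton⟩
  · haveI : Subsingleton ↥(alternatingGroup (Fin 2)) := by
      refine ⟨fun a b => Subtype.ext ?_⟩
      have h : ∀ σ : Perm (Fin 2), sign σ = 1 → σ = 1 := by decide
      rw [h a.1 a.2, h b.1 b.2]
    exact ⟨pres2_perm_two, pres2_subsingleton⟩
  · exact ⟨pres2_perm_one.congr e3.permCongrHom, pres2_alt_one.congr (Equiv.altCongrHom e3)⟩
  · exact ⟨pres2_perm_four.congr e4.permCongrHom, pres2_alt_two.congr (Equiv.altCongrHom e4)⟩

end Cfsg.Lib.PresSymAlt
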