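import Cfsg.Agent.Lib.PresSymAlt.Carmichael

/-!
# Four relations for the alternating group of degree `p + 2`
-/

set_option autoImplicit false
set_option linter.unusedSectionVars false
set_option linter.style.haveILetI false

namespace Cfsg.Lib.PresSymAlt

variable {G : Type*} [Group G] {p : ℕ} [hp : Fact p.Prime]

/-- The conjugates of `x` by the powers of `a`, indexed modulo `p`. -/
def xz (a x : G) (i : ZMod p) : G := a ^ i.val * x * (a ^ i.val)⁻¹

/-- A primitive root `r` and a natural number `s` with `s * r = s - 1` modulo `p`. -/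
structure RootData (p : ℕ) [Fact p.Prime] where
  r : ZMod p
  s : ℕ
  gen : ∀ m : ZMod p, m ≠ 0 → ∃ k : ℕ, m = r ^ k
  ne_one : r ≠ 1
  ne_zero : r ≠ 0
  s_ne : (s : ZMod p) ≠ 0
  eqn : (s : ZMod p) * r = ((s - 1 : ℕ) : ZMod p)

theorem exists_rootData (hp3 : 3 ≤ p) : Nonempty (RootData p) := by
  obtain ⟨u, hu⟩ := IsCyclic.exists_generator (α := (ZMod p)ˣ)
  have hgen : ∀ m : ZMod p, m ≠ 0 → ∃ k : ℕ, m = (u : ZMod p) ^ k := by
    intro m hm
    obtain ⟨k, hk⟩ := (Submonoid.mem_powers_iff _ _).1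
      ((IsOfFinOrder.mem_powers_iff_mem_zpowers (isOfFinOrder_of_finite u)).2 (hu (Units.mk0 m hm)))
    exact ⟨k, by rw [← Units.val_pow_eq_pow_val, hk, Units.val_mk0]⟩
  have hne : (u : ZMod p) ≠ 1 := by
    intro e
    obtain ⟨k, hk⟩ := hgen 2 (fun h => by
      have : ((2 : ℕ) : ZMod p) = 0 := by exact_mod_cast h
      have := Nat.le_of_dvd (by norm_num) ((CharP.cast_eq_zero_iff (ZMod p) p 2).1 this)
      omega)
    rw [e, one_pow] at hk
    have h1 : ((1 : ℕ) : ZMod p) = 0 := by push_cast; linear_combination hk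
    have := Nat.le_of_dvd (by norm_num) ((CharP.cast_eq_zero_iff (ZMod p) p 1).1 h1)
    omega
  have h1u : (1 : ZMod p) - u ≠ 0 := sub_ne_zero.2 hne.symm
  set t : ZMod p := (1 - (u : ZMod p))⁻¹ with ht
  have ht0 : t ≠ 0 := inv_ne_zero h1u
  have hval : 1 ≤ t.val := Nat.one_le_iff_ne_zero.2 (by simpa [ZMod.val_eq_zero] using ht0)
  refine ⟨⟨u, t.val, hgen, hne, u.ne_zero, by rwa [ZMod.natCast_zmod_val], ?_⟩⟩
  rw [Nat.cast_sub hval, ZMod.natCast_zmod_val, Nat.cast_one]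
  have : t * (1 - (u : ZMod p)) = 1 := inv_mul_cancel₀ h1u
  linear_combination -this

/-- The four relations. -/
structure JRel (D : RootData p) (a x b : G) : Prop where
  central : a ^ p = x ^ 3
  conj : b * a ^ D.s * b⁻¹ = a ^ (D.s - 1)
  invert : b * x * b⁻¹ = x⁻¹
  pair : (x * (a * x * a⁻¹)) ^ 2 = 1

variable {D : RootData p} {a x b : G} (h : JRel D a x b)
  (hb : b ∈ Subgroup.closure (Set.range (xz (p := p) a x)))

include h hb

theorem JRel.pow_a : a ^ p = 1 := by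
  set z := a ^ p with hz
  have hza : Commute z a := Commute.pow_self a p
  have hzx : Commute z x := by rw [show z = x ^ 3 from h.central]; exact Commute.pow_self x 3
  have hzb : Commute z b := by
    have : Subgroup.closure (Set.range (xz (p := p) a x)) ≤ Subgroup.centralizer ({z} : Set G) := by
      rw [Subgroup.closure_le]
      rintro _ ⟨i, rfl⟩
      rw [SetLike.mem_coe, Subgroup.mem_centralizer_singleton_iff]
      exact (((hza.pow_right _).mul_right hzx).mul_right (hza.pow_right _).inv_right).symm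
    exact (Subgroup.mem_centralizer_singleton_iff.1 (this hb)).symm
  have h1 := congrArg (fun g => g ^ p) h.conj
  simp only [conj_pow] at h1
  rw [← pow_mul, ← pow_mul, mul_comm D.s, mul_comm (D.s - 1), pow_mul, pow_mul, ← hz,
    (hzb.pow_left D.s).symm.eq, mul_inv_cancel_right] at h1
  have hs : 1 ≤ D.s := Nat.one_le_iff_ne_zero.2 fun e => D.s_ne (by rw [e]; simp)
  rw [show D.s = (D.s - 1) + 1 by omega, pow_succ] at h1
  simpa using h1

theorem JRel.pow_eq {m n : ℕ} (e : (m : ZMod p) = n) : a ^ m = a ^ n :=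
  pow_eq_pow_of_modEq ((ZMod.natCast_eq_natCast_iff m n p).1 e) (h.pow_a hb)

theorem JRel.cube_x : x ^ 3 = 1 := by rw [← h.central, h.pow_a hb]

theorem JRel.conj_pow_a (m : ℕ) : b * a ^ m * b⁻¹ = a ^ ((D.r * m).val) := by
  have e : (((D.s * ((m : ZMod p) / D.s).val : ℕ)) : ZMod p) = m := by
    rw [Nat.cast_mul, ZMod.natCast_zmod_val, mul_div_cancel₀ _ D.s_ne]
  rw [← h.pow_eq hb e, pow_mul, ← conj_pow, h.conj, ← pow_mul]
  refine h.pow_eq hb ?_
  rw [Nat.cast_mul, ZMod.natCast_zmod_val, ← D.eqn, ZMod.natCast_zmod_val]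
  field_simp [D.s_ne]

theorem JRel.xz_add (i : ZMod p) (m : ℕ) : a ^ m * xz a x i * (a ^ m)⁻¹ = xz a x (i + (m : ZMod p)) := by
  have e : a ^ m * a ^ i.val = a ^ (i + (m : ZMod p)).val := by
    rw [← pow_add]
    refine h.pow_eq hb ?_
    rw [Nat.cast_add, ZMod.natCast_zmod_val, ZMod.natCast_zmod_val, add_comm]
  rw [xz, xz, ← e]; group

theorem JRel.conj_xz (i : ZMod p) : b * xz a x i * b⁻¹ = (xz a x (D.r * i))⁻¹ := by
  have e := h.conj_pow_a hb i.val
  rw [ZMod.natCast_zmod_val] at e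
  calc b * xz a x i * b⁻¹ = (b * a ^ i.val * b⁻¹) * (b * x * b⁻¹) * (b * a ^ i.val * b⁻¹)⁻¹ := by
        rw [xz]; group
    _ = _ := by rw [e, h.invert, xz]; group

theorem JRel.carRel : CarRel (xz (p := p) a x) := by
  have hc : ∀ i : ZMod p, xz a x i ^ 3 = 1 := fun i => by rw [xz, conj_pow, h.cube_x hb]; group
  refine ⟨hc, ?_⟩
  have hQ : ∀ m : ZMod p, m ≠ 0 → (xz a x (0 : ZMod p) * xz a x m) ^ 2 = 1 := by
    intro m hm
    obtain ⟨k, rfl⟩ := D.gen m hm
    clear hm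
    induction k with
    | zero =>
      have h1 : xz a x (1 : ZMod p) = a * x * a⁻¹ := by rw [xz, ZMod.val_one, pow_one]
      have h0 : xz a x (0 : ZMod p) = x := by rw [xz, ZMod.val_zero]; simp
      rw [pow_zero, h1, h0]; exact h.pair
    | succ k ih =>
      have h2 := congrArg (fun g => b * g * b⁻¹) ih
      simp only [← conj_pow, mul_one, mul_inv_cancel] at h2
      rw [show b * (xz a x (0 : ZMod p) * xz a x (D.r ^ k)) * b⁻¹ =
        (b * xz a x (0 : ZMod p) * b⁻¹) * (b * xz a x (D.r ^ k) * b⁻¹) by group, h.conj_xz hb, h.conj_xz hb,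
        mul_zero, ← pow_succ', ← mul_inv_rev, inv_pow, inv_eq_one] at h2
      rw [show xz a x (0 : ZMod p) * xz a x (D.r ^ (k + 1)) = (xz a x (D.r ^ (k + 1)))⁻¹ *
        (xz a x (D.r ^ (k + 1)) * xz a x (0 : ZMod p)) * (xz a x (D.r ^ (k + 1))) by group]
      have h3 : ∀ u v : G, v ^ 2 = 1 → (u⁻¹ * v * u) ^ 2 = 1 := fun u v hv => by
        calc (u⁻¹ * v * u) ^ 2 = u⁻¹ * v ^ 2 * u := by simp only [pow_two]; group
          _ = 1 := by rw [hv]; group
      exact h3 _ _ h2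
  intro i j hij
  have e := congrArg (fun g => a ^ i.val * g * (a ^ i.val)⁻¹) (hQ (j - i) (sub_ne_zero.2 hij.symm))
  simp only [← conj_pow, mul_one, mul_inv_cancel] at e
  rw [show a ^ i.val * (xz a x (0 : ZMod p) * xz a x (j - i)) * (a ^ i.val)⁻¹ =
    (a ^ i.val * xz a x (0 : ZMod p) * (a ^ i.val)⁻¹) * (a ^ i.val * xz a x (j - i) * (a ^ i.val)⁻¹) by group,
    h.xz_add hb, h.xz_add hb, ZMod.natCast_zmod_val, zero_add, sub_add_cancel] at e
  exact e

theorem JRel.a_mem : a ∈ Subgroup.closure (Set.range (xz (p := p) a x)) := by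
  set H := Subgroup.closure (Set.range (xz (p := p) a x)) with hH
  have hn : ∀ m : ℕ, ∀ g ∈ H, a ^ m * g * (a ^ m)⁻¹ ∈ H := by
    intro m g hg
    induction hg using Subgroup.closure_induction with
    | mem z hz =>
      obtain ⟨i, rfl⟩ := hz
      rw [h.xz_add hb]
      exact Subgroup.subset_closure ⟨_, rfl⟩
    | one => simp
    | mul u v _ _ hu hv =>
      rw [show a ^ m * (u * v) * (a ^ m)⁻¹ = (a ^ m * u * (a ^ m)⁻¹) * (a ^ m * v * (a ^ m)⁻¹) by group]
      exact mul_mem hu hv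
    | inv u _ hu =>
      rw [show a ^ m * u⁻¹ * (a ^ m)⁻¹ = (a ^ m * u * (a ^ m)⁻¹)⁻¹ by group]
      exact inv_mem hu
  have h1 : b * a ^ 1 * b⁻¹ * (a ^ 1)⁻¹ ∈ H := by
    rw [show b * a ^ 1 * b⁻¹ * (a ^ 1)⁻¹ = b * (a ^ 1 * b⁻¹ * (a ^ 1)⁻¹) by group]
    exact mul_mem hb (hn 1 _ (inv_mem hb))
  rw [h.conj_pow_a hb, Nat.cast_one, mul_one] at h1
  have hp1 : a ^ D.r.val * (a ^ 1)⁻¹ = a ^ (D.r - 1).val := by
    rw [mul_inv_eq_iff_eq_mul, ← pow_add]
    refine h.pow_eq hb ?_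
    rw [Nat.cast_add, ZMod.natCast_zmod_val, ZMod.natCast_zmod_val, Nat.cast_one, sub_add_cancel]
  rw [hp1] at h1
  have h2 : (a ^ (D.r - 1).val) ^ ((D.r - 1)⁻¹).val = a ^ 1 := by
    rw [← pow_mul]
    refine h.pow_eq hb ?_
    rw [Nat.cast_mul, ZMod.natCast_zmod_val, ZMod.natCast_zmod_val, Nat.cast_one,
      mul_inv_cancel₀ (sub_ne_zero.2 D.ne_one)]
  have h3 := pow_mem h1 ((D.r - 1)⁻¹).val
  rwa [h2, pow_one] at h3

/-- The group generated by `a` and `x` is an image of the alternating group of degree `p + 2`. -/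
theorem JRel.exists_hom :
    ∃ ψ : ↥(alternatingGroup (ZMod p ⊕ Bool)) →* G, (∀ i, ψ ⟨tri i, tri_mem i⟩ = xz a x i) ∧
      ψ.range ≤ Subgroup.closure (Set.range (xz (p := p) a x)) :=
  carmichael (h.carRel hb)

end Cfsg.Lib.PresSymAlt
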