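import Cfsg.Agent.Lib.PresSymAlt.Carmichael

/-!
# The permutations used for the short presentations
-/

set_option autoImplicit false
set_option linter.unusedSectionVars false
set_option linter.style.haveILetI false

namespace Cfsg.Lib.PresSymAlt

open Equiv Equiv.Perm

/-- The swap of the two extra points, or the identity. -/
def bs (b : Bool) : Perm Bool := if b then swap false true else 1

/-- The exponent belonging to `bs`. -/
def sgz (b : Bool) : ℤ := if b then -1 else 1

theorem sgz_mul_self (b : Bool) : sgz b * sgz b = 1 := by cases b <;> rfl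

theorem sgz_pow (b : Bool) (i : ℕ) : sgz b ^ i = 1 ∨ sgz b ^ i = -1 := by
  cases b
  · left; simp [sgz]
  · exact neg_one_pow_eq_or ℤ i

section Conj

variable {I : Type*} [DecidableEq I] [Fintype I]

theorem conj_tri (q : Perm I) (b : Bool) (i : I) :
    Equiv.sumCongr q (bs b) * tri i * (Equiv.sumCongr q (bs b))⁻¹ = tri (q i) ^ sgz b := by
  rw [mul_inv_eq_iff_eq_mul]
  cases b
  · rw [sgz, if_neg (by simp), zpow_one]
    apply Equiv.ext; intro z
    simp only [Perm.mul_apply]
    rcases z with k | c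
    · by_cases hk : k = i
      · subst hk; simp [tri_apply, bs]
      · simp [tri_apply, bs, hk]
    · cases c <;> simp [tri_apply, bs]
  · rw [sgz, if_pos rfl, zpow_neg_one, eq_inv_mul_iff_mul_eq]
    apply Equiv.ext; intro z
    simp only [Perm.mul_apply]
    rcases z with k | c
    · by_cases hk : k = i
      · subst hk; simp [tri_apply, bs]
      · simp [tri_apply, bs, hk]
    · cases c <;> simp [tri_apply, bs]

theorem tri_sq_ne_one (i : I) : tri i ^ 2 ≠ 1 := by
  intro h
  have := congrArg (fun f : Perm (I ⊕ Bool) => f (.inr false)) h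
  simp [pow_two, tri_apply] at this

end Conj

variable {p N : ℕ} [Fact p.Prime] [NeZero N]

/-- Shift by one, and possibly a swap of the two extra points. -/
def gam (N : ℕ) (ε : Bool) : Perm (ZMod N ⊕ Bool) := Equiv.sumCongr (Equiv.addRight 1) (bs ε)

theorem gam_inl (ε : Bool) (i : ZMod N) : gam N ε (.inl i) = .inl (i + 1) := rfl

theorem gam_pow_inl (ε : Bool) (m : ℕ) (i : ZMod N) : (gam N ε ^ m) (.inl i) = .inl (i + m) := by
  induction m generalizing i with
  | zero => simp
  | succ m ih => rw [pow_succ, Perm.mul_apply, gam_inl, ih]; push_cast; simp [add_comm, add_left_comm]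

theorem sign_addRight (N : ℕ) [NeZero N] : sign (Equiv.addRight (1 : ZMod N)) = (-1) ^ (N - 1) := by
  cases N with
  | zero => exact absurd rfl (NeZero.ne 0)
  | succ n =>
    rw [show (Equiv.addRight (1 : ZMod (n + 1))) = finRotate (n + 1) from
      Equiv.ext fun i => (finRotate_apply (n := n + 1) i).symm]
    convert sign_finRotate (n + 1) using 1
    exact congrFun (congrArg DFunLike.coe (by congr 1)) _

theorem sign_bs (b : Bool) : sign (bs b) = if b then -1 else 1 := by
  cases b <;> simp [bs]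

theorem sign_gam (ε : Bool) : sign (gam N ε) = (-1) ^ (N - 1) * if ε then -1 else 1 := by
  rw [gam, Perm.sign_sumCongr, sign_addRight, sign_bs]

/-- The embedding of the first window. -/
def win (hpN : p ≤ N) : ZMod p ⊕ Bool ↪ ZMod N ⊕ Bool :=
  ⟨Sum.map (fun i : ZMod p => (i.val : ZMod N)) id, Sum.map_injective.2 ⟨fun i j h => by
    have h' := congrArg ZMod.val h
    rw [ZMod.val_cast_of_lt (lt_of_lt_of_le (ZMod.val_lt i) hpN),
      ZMod.val_cast_of_lt (lt_of_lt_of_le (ZMod.val_lt j) hpN)] at h'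
    exact ZMod.val_injective p h', Function.injective_id⟩⟩

/-- Permutations of the first window, extended. -/
noncomputable def upHom (hpN : p ≤ N) : Perm (ZMod p ⊕ Bool) →* Perm (ZMod N ⊕ Bool) :=
  Perm.viaEmbeddingHom (win hpN)

variable (hpN : p ≤ N)

theorem upHom_apply (f : Perm (ZMod p ⊕ Bool)) (z : ZMod p ⊕ Bool) : upHom hpN f (win hpN z) = win hpN (f z) :=
  Perm.viaEmbedding_apply f (win hpN) z

theorem upHom_fix (f : Perm (ZMod p ⊕ Bool)) {i : ZMod N} (hi : p ≤ i.val) : upHom hpN f (.inl i) = .inl i := by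
  refine Perm.viaEmbedding_apply_of_notMem f (win hpN) _ ?_
  rintro ⟨j | b, hj⟩
  · have h : ((j.val : ℕ) : ZMod N) = i := Sum.inl_injective hj
    rw [← h, ZMod.val_cast_of_lt (lt_of_lt_of_le (ZMod.val_lt j) hpN)] at hi
    exact absurd (ZMod.val_lt j) (not_lt.2 hi)
  · exact absurd hj (by simp [win])

theorem range_win {z : ZMod N ⊕ Bool} : z ∈ Set.range (win hpN) ∨ ∃ i : ZMod N, z = .inl i ∧ p ≤ i.val := by
  rcases z with i | b
  · by_cases hi : i.val < p
    · exact Or.inl ⟨.inl (i.val : ZMod p), by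
        show Sum.inl _ = Sum.inl i
        beta_reduce
        rw [ZMod.val_cast_of_lt hi, ZMod.natCast_zmod_val]⟩
    · exact Or.inr ⟨i, rfl, not_lt.1 hi⟩
  · exact Or.inl ⟨.inr b, rfl⟩

theorem upHom_injective : Function.Injective (upHom (N := N) hpN) := by
  intro f g h
  refine Equiv.ext fun z => (win hpN).injective ?_
  rw [← upHom_apply hpN f z, ← upHom_apply hpN g z, h]

theorem sign_upHom (f : Perm (ZMod p ⊕ Bool)) : sign (upHom hpN f) = sign f := by
  show sign (Perm.viaEmbedding f (win hpN)) = sign f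
  rw [Perm.viaEmbedding]
  convert Perm.sign_extendDomain f _

theorem upHom_tri (i : ZMod p) : upHom hpN (tri i) = tri (i.val : ZMod N) := by
  refine Equiv.ext fun z => ?_
  rcases range_win hpN (z := z) with ⟨w, rfl⟩ | ⟨j, rfl, hj⟩
  · rw [upHom_apply]
    rcases w with j | b
    · by_cases hji : j = i
      · subst hji; simp [win, tri_apply, -ZMod.natCast_val]
      · have hne : ((j.val : ℕ) : ZMod N) ≠ (i.val : ZMod N) := fun h =>
          hji (Sum.inl_injective ((win hpN).injective (a₁ := .inl j) (a₂ := .inl i) (congrArg Sum.inl h)))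
        simp [win, tri_apply, hji, hne, -ZMod.natCast_val]
    · cases b <;> simp [win, tri_apply]
  · rw [upHom_fix hpN _ hj, tri_apply, if_neg, if_neg (by simp), if_neg (by simp)]
    intro h
    rw [Sum.inl_injective h, ZMod.val_cast_of_lt (lt_of_lt_of_le (ZMod.val_lt i) hpN)] at hj
    exact absurd (ZMod.val_lt i) (not_lt.2 hj)

/-- The shift on the window. -/
def aPerm (p : ℕ) : Perm (ZMod p ⊕ Bool) := gam p false

/-- The shift of the window without its last point, with the swap of the two extra points. -/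
def gPerm (p : ℕ) : Perm (ZMod p ⊕ Bool) :=
  Equiv.sumCongr (Equiv.addRight 1 * swap (-2) (-1)) (bs true)

theorem sign_aPerm (h3 : 3 ≤ p) : sign (aPerm p) = 1 := by
  have hodd : Odd p := (Fact.out : p.Prime).odd_of_ne_two (by omega)
  obtain ⟨t, rfl⟩ := hodd
  rw [aPerm, sign_gam]
  simp [pow_mul]

theorem neg_two_ne_neg_one : (-2 : ZMod p) ≠ -1 := by
  intro h
  exact one_ne_zero (α := ZMod p) (by linear_combination -h)

theorem sign_gPerm (h3 : 3 ≤ p) : sign (gPerm p) = 1 := by
  have hodd : Odd p := (Fact.out : p.Prime).odd_of_ne_two (by omega)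
  obtain ⟨t, ht⟩ := hodd
  rw [gPerm, Perm.sign_sumCongr, map_mul, sign_addRight, sign_swap neg_two_ne_neg_one, sign_bs, ht]
  simp [pow_mul]

theorem natCast_ne_of_lt {m : ℕ} {d : ℕ} (hd : 0 < d) (hmd : m + d < p) :
    (m : ZMod p) ≠ -(d : ZMod p) := by
  intro h
  have h0 : (((m + d : ℕ)) : ZMod p) = 0 := by push_cast; rw [h]; ring
  have := Nat.le_of_dvd (by omega) ((CharP.cast_eq_zero_iff (ZMod p) p _).1 h0)
  omega

theorem gPerm_conj_tri {i : ℕ} (hi : i + 2 < p) :
    gPerm p * tri (i : ZMod p) * (gPerm p)⁻¹ = (tri ((i + 1 : ℕ) : ZMod p))⁻¹ := by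
  rw [gPerm, conj_tri, sgz, if_pos rfl, zpow_neg_one, Perm.mul_apply, swap_apply_of_ne_of_ne]
  · simp
  · simpa using natCast_ne_of_lt (p := p) (m := i) (d := 2) (by omega) (by omega)
  · simpa using natCast_ne_of_lt (p := p) (m := i) (d := 1) (by omega) (by omega)

/-- The permutations in the two windows whose product is the `e`-th power of the shift. -/
theorem exists_windows {e : ℕ} (h3 : 3 ≤ p) (he : e = 1 ∨ e = 2) (hk : N - p + e ≤ p) (ε : Bool)
    (heven : sign (gam N ε) ^ e = 1) :
    ∃ P Q : Perm (ZMod p ⊕ Bool), sign P = 1 ∧ sign Q = 1 ∧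
      (∃ b : Bool, Q * tri ((p - e : ℕ) : ZMod p) * Q⁻¹ = tri ((p - e - (N - p) : ℕ) : ZMod p) ^ sgz b) ∧
      gam N ε ^ e = upHom hpN P * (gam N ε ^ (N - p) * upHom hpN Q * (gam N ε ^ (N - p))⁻¹) := by
  have hppos : 0 < p := by omega
  set k := N - p with hkdef
  set lo := p - e - k with hlo
  set L := k + e with hL
  have hloL : lo + L = p := by omega
  have he0 : 1 ≤ e := by omega
  let emb : Fin L ↪ ZMod p := ⟨fun l => ((lo + l.val : ℕ) : ZMod p), fun l l' h => by
    have h' := congrArg ZMod.val h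
    rw [ZMod.val_cast_of_lt (by have := l.isLt; omega), ZMod.val_cast_of_lt (by have := l'.isLt; omega)] at h'
    exact Fin.ext (by omega)⟩
  set q : Perm (ZMod p) := Perm.viaEmbedding (finRotate L) emb ^ e with hq
  have hq1 : ∀ j, j < L → Perm.viaEmbedding (finRotate L) emb ((lo + j : ℕ) : ZMod p) =
      ((lo + (j + 1) % L : ℕ) : ZMod p) := by
    intro j hj
    have h := Perm.viaEmbedding_apply (finRotate L) emb ⟨j, hj⟩
    refine h.trans ?_
    haveI : NeZero L := ⟨by omega⟩
    have : ((finRotate L) ⟨j, hj⟩ : Fin L).val = (j + 1) % L := by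
      rw [finRotate_apply, Fin.val_add, Fin.val_one', Nat.add_mod_mod]
    show ((lo + _ : ℕ) : ZMod p) = _
    rw [this]
  have hqe : ∀ j, j < L → q ((lo + j : ℕ) : ZMod p) = ((lo + (j + e) % L : ℕ) : ZMod p) := by
    intro j hj
    rw [hq]
    rcases he with he' | he' <;> subst he'
    · rw [pow_one, hq1 j hj]
    · rw [pow_two, Perm.mul_apply, hq1 j hj, hq1 _ (Nat.mod_lt _ (by omega)), Nat.mod_add_mod]
  set δ : Bool := decide (sign q ≠ 1) with hδ
  set Q : Perm (ZMod p ⊕ Bool) := Equiv.sumCongr q (bs δ) with hQ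
  have hQs : sign Q = 1 := by
    rw [hQ, Perm.sign_sumCongr, sign_bs]
    rcases Int.units_eq_one_or (sign q) with h | h <;> simp [hδ, h]
  have hQtri : Q * tri ((p - e : ℕ) : ZMod p) * Q⁻¹ = tri ((lo : ℕ) : ZMod p) ^ sgz δ := by
    rw [hQ, conj_tri, show p - e = lo + (L - e) by omega, hqe _ (by omega),
      show L - e + e = L by omega, Nat.mod_self, add_zero]
  set f := gam N ε ^ e * (gam N ε ^ k * upHom hpN Q * (gam N ε ^ k)⁻¹)⁻¹ with hf
  have hfix : ∀ i : ZMod N, p ≤ i.val → f (.inl i) = .inl i := by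
    intro i hi
    have hiN := ZMod.val_lt i
    have h1 : (gam N ε ^ k * upHom hpN Q * (gam N ε ^ k)⁻¹) (.inl ((i.val - e : ℕ) : ZMod N)) = .inl i := by
      have h2 : (gam N ε ^ k)⁻¹ (.inl ((i.val - e : ℕ) : ZMod N)) =
          win hpN (.inl ((lo + (i.val - p) : ℕ) : ZMod p)) := by
        rw [Perm.inv_eq_iff_eq]
        show _ = (gam N ε ^ k) (.inl _)
        rw [gam_pow_inl]
        beta_reduce
        rw [ZMod.val_cast_of_lt (by omega), ← Nat.cast_add]
        congr 2
        omega
      rw [Perm.mul_apply, Perm.mul_apply, h2, upHom_apply]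
      show (gam N ε ^ k) (win hpN (.inl (q _))) = _
      rw [hqe _ (by omega), Nat.mod_eq_of_lt (by omega)]
      show (gam N ε ^ k) (.inl _) = _
      rw [gam_pow_inl]
      beta_reduce
      rw [ZMod.val_cast_of_lt (by omega), ← Nat.cast_add,
        show lo + (i.val - p + e) + k = i.val by omega, ZMod.natCast_zmod_val]
    rw [hf, Perm.mul_apply, Perm.inv_eq_iff_eq.2 h1.symm, gam_pow_inl, ← Nat.cast_add,
      show i.val - e + e = i.val by omega, ZMod.natCast_zmod_val]
  have hmap : ∀ z, f (win hpN z) ∈ Set.range (win hpN) := by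
    intro z
    rcases range_win hpN (z := f (win hpN z)) with h | ⟨i, h, hi⟩
    · exact h
    · exfalso
      have h' : f (win hpN z) = f (.inl i) := by rw [hfix i hi, h]
      have h'' := f.injective h'
      rcases z with j | b
      · have hh : ((j.val : ℕ) : ZMod N) = i := Sum.inl_injective h''
        rw [← hh, ZMod.val_cast_of_lt (lt_of_lt_of_le (ZMod.val_lt j) hpN)] at hi
        exact absurd (ZMod.val_lt j) (not_lt.2 hi)
      · exact absurd h'' (by simp [win])
  choose g hg using hmap
  have hginj : Function.Injective g := fun z z' h => (win hpN).injective (f.injective (by rw [← hg, ← hg, h]))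
  let P : Perm (ZMod p ⊕ Bool) := Equiv.ofBijective g (Finite.injective_iff_bijective.1 hginj)
  have hP : upHom hpN P = f := by
    refine Equiv.ext fun z => ?_
    rcases range_win hpN (z := z) with ⟨w, rfl⟩ | ⟨i, rfl, hi⟩
    · rw [upHom_apply]; exact hg w
    · rw [upHom_fix hpN _ hi, hfix i hi]
  refine ⟨P, Q, ?_, hQs, ⟨δ, hQtri⟩, ?_⟩
  · rw [← sign_upHom hpN P, hP, hf, map_mul, map_pow, map_inv, map_mul, map_mul, map_inv, sign_upHom, hQs,
      mul_one, mul_inv_cancel, inv_one, mul_one, heven]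
  · rw [hP, hf, inv_mul_cancel_right]

end Cfsg.Lib.PresSymAlt
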