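import Cfsg.Agent.Lib.PresSymAlt.AffineJ
import Cfsg.Agent.Lib.PresSymAlt.Perms

/-!
# Gluing: seven relations force the symmetric or alternating group of degree `N + 2`
-/

set_option autoImplicit false
set_option linter.unusedSectionVars false
set_option linter.style.haveILetI false

namespace Cfsg.Lib.PresSymAlt

open Equiv Equiv.Perm

variable {p N : ℕ} [Fact p.Prime] [NeZero N] {G : Type*} [Group G]

/-- The data of a group with the seven relations. -/
structure Glue (D : RootData p) (e : ℕ) (ε : Bool) (G : Type*) [Group G] [NeZero N] where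
  π : G →* Perm (ZMod N ⊕ Bool)
  hpN : p ≤ N
  h3 : 3 ≤ p
  he : e = 1 ∨ e = 2
  hk : N - p + e ≤ p
  parity : sign (gam N ε) = if e = 1 then 1 else -1
  a : G
  x : G
  c : G
  b : G
  gw : G
  Pw : G
  Qw : G
  gen : Subgroup.closure ({a, x, c} : Set G) = ⊤
  πa : π a = upHom hpN (aPerm p)
  πx : π x = tri (0 : ZMod N)
  πc : π c = gam N ε
  hb : b ∈ Subgroup.closure (Set.range (xz (p := p) a x))
  rel : JRel D a x b
  gw_mem : gw ∈ Subgroup.closure (Set.range (xz (p := p) a x))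
  Pw_mem : Pw ∈ Subgroup.closure (Set.range (xz (p := p) a x))
  Qw_mem : Qw ∈ Subgroup.closure (Set.range (xz (p := p) a x))
  πgw : π gw = upHom hpN (gPerm p)
  qtri : ∃ z : ℤ, π (Qw * xz a x ((p - e : ℕ) : ZMod p) * Qw⁻¹) =
    π (xz a x ((p - e - (N - p) : ℕ) : ZMod p)) ^ z
  shift_x : a⁻¹ * c * x * (a⁻¹ * c)⁻¹ = x ^ sgz ε
  shift_g : a⁻¹ * c * gw * (a⁻¹ * c)⁻¹ = gw
  long : c ^ e = Pw * (c ^ (N - p) * Qw * (c ^ (N - p))⁻¹)

variable {D : RootData p} {e : ℕ} {ε : Bool} (S : Glue (N := N) D e ε G)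

/-- The conjugates of `x` by powers of `c`, with signs. -/
def Glue.y (i : ℕ) : G := S.c ^ i * S.x ^ (sgz ε ^ i) * (S.c ^ i)⁻¹

/-- The subgroup generated by the conjugates of `x` by powers of `a`. -/
def Glue.H : Subgroup G := Subgroup.closure (Set.range (xz (p := p) S.a S.x))

theorem Glue.y_zero : S.y 0 = S.x := by simp [Glue.y]

theorem Glue.y_add (i d : ℕ) : S.y (i + d) = S.c ^ i * S.y d ^ (sgz ε ^ i) * (S.c ^ i)⁻¹ := by
  rw [Glue.y, Glue.y, conj_zpow, ← zpow_mul, ← pow_add, pow_add S.c, add_comm i d, mul_inv_rev]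
  simp only [mul_assoc]

theorem Glue.y_succ (i : ℕ) : S.y (i + 1) = S.c * S.y i ^ sgz ε * S.c⁻¹ := by
  rw [add_comm i 1, S.y_add 1 i]; simp

theorem Glue.conj_y (i : ℕ) : S.c * S.y i * S.c⁻¹ = S.y (i + 1) ^ sgz ε := by
  rw [S.y_succ, conj_zpow, ← zpow_mul, sgz_mul_self, zpow_one]

theorem Glue.π_xz (i : ZMod p) : S.π (xz S.a S.x i) = upHom S.hpN (tri i) := by
  have h0 : upHom (N := N) S.hpN (tri (0 : ZMod p)) = tri (0 : ZMod N) := by
    rw [upHom_tri, ZMod.val_zero, Nat.cast_zero]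
  rw [xz, map_mul, map_mul, map_inv, map_pow, S.πa, S.πx, ← h0, ← map_pow, ← map_inv, ← map_mul, ← map_mul]
  congr 1
  have hpw : ∀ m : ℕ, aPerm p ^ m = Equiv.sumCongr (Equiv.addRight (m : ZMod p)) (bs false) := by
    intro m
    induction m with
    | zero => ext z; rcases z with z | z <;> simp [bs]
    | succ m ih =>
      rw [pow_succ, ih, aPerm, gam]
      ext z; rcases z with z | z <;> simp [bs, add_comm]
  rw [hpw, conj_tri]
  simp [sgz]

theorem Glue.exists_preimage {g : G} (hg : g ∈ S.H) :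
    ∃ h : ↥(alternatingGroup (ZMod p ⊕ Bool)), S.π g = upHom S.hpN ↑h ∧
      ∀ g' ∈ S.H, S.π g' = upHom S.hpN ↑h → g' = g := by
  obtain ⟨ψ, hψ, -⟩ := S.rel.exists_hom S.hb
  have hπ : S.π.comp ψ = (upHom S.hpN).comp (alternatingGroup (ZMod p ⊕ Bool)).subtype :=
    hom_ext_tri fun i => by simp [hψ, S.π_xz]
  have hr : S.H ≤ ψ.range := by
    rw [Glue.H, Subgroup.closure_le]
    rintro _ ⟨i, rfl⟩
    exact ⟨_, hψ i⟩
  have hπ' : ∀ h, S.π (ψ h) = upHom S.hpN ↑h := fun h => DFunLike.congr_fun hπ h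
  obtain ⟨h, rfl⟩ := hr hg
  refine ⟨h, hπ' h, fun g' hg' heq => ?_⟩
  obtain ⟨h', rfl⟩ := hr hg'
  rw [hπ'] at heq
  rw [Subtype.ext (upHom_injective S.hpN heq)]

theorem Glue.ext_H {g g' : G} (hg : g ∈ S.H) (hg' : g' ∈ S.H) (h : S.π g = S.π g') : g = g' := by
  obtain ⟨u, hu, huniq⟩ := S.exists_preimage hg
  exact (huniq g' hg' (h ▸ hu)).symm

theorem Glue.xz_mem (i : ZMod p) : xz S.a S.x i ∈ S.H := Subgroup.subset_closure ⟨i, rfl⟩

theorem Glue.gw_conj {i : ℕ} (hi : i + 2 < p) :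
    S.gw * xz S.a S.x (i : ZMod p) * S.gw⁻¹ = (xz S.a S.x ((i + 1 : ℕ) : ZMod p))⁻¹ := by
  refine S.ext_H (mul_mem (mul_mem S.gw_mem (S.xz_mem _)) (inv_mem S.gw_mem)) (inv_mem (S.xz_mem _)) ?_
  rw [map_mul, map_mul, map_inv, map_inv, S.π_xz, S.π_xz, S.πgw, ← map_inv, ← map_mul, ← map_mul,
    gPerm_conj_tri hi, map_inv]

theorem Glue.xz_zero : xz S.a S.x (0 : ZMod p) = S.x := by rw [xz, ZMod.val_zero]; simp

theorem Glue.u_conj : ∀ i : ℕ, i + 1 < p →
    S.a⁻¹ * S.c * xz S.a S.x (i : ZMod p) * (S.a⁻¹ * S.c)⁻¹ = xz S.a S.x (i : ZMod p) ^ sgz ε := by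
  intro i
  induction i with
  | zero => intro _; rw [Nat.cast_zero, S.xz_zero]; exact S.shift_x
  | succ i ih =>
    intro hi
    set u := S.a⁻¹ * S.c
    rw [← inv_inv (xz S.a S.x ((i + 1 : ℕ) : ZMod p)), ← S.gw_conj (by omega)]
    have hg : u * S.gw * u⁻¹ = S.gw := S.shift_g
    calc u * (S.gw * xz S.a S.x (i : ZMod p) * S.gw⁻¹)⁻¹ * u⁻¹
        = ((u * S.gw * u⁻¹) * (u * xz S.a S.x (i : ZMod p) * u⁻¹) * (u * S.gw * u⁻¹)⁻¹)⁻¹ := by group
      _ = ((S.gw * xz S.a S.x (i : ZMod p) * S.gw⁻¹) ^ sgz ε)⁻¹ := by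
          rw [hg, ih (by omega), conj_zpow]
      _ = _ := (inv_zpow _ _).symm

theorem Glue.y_eq_xz : ∀ i : ℕ, i < p → S.y i = xz S.a S.x (i : ZMod p) := by
  intro i
  induction i with
  | zero => intro _; rw [Nat.cast_zero, S.xz_zero, S.y_zero]
  | succ i ih =>
    intro hi
    have h1 : S.c * xz S.a S.x (i : ZMod p) * S.c⁻¹ = xz S.a S.x ((i + 1 : ℕ) : ZMod p) ^ sgz ε := by
      have h2 := congrArg (fun g => S.a * g * S.a⁻¹) (S.u_conj i hi)
      simp only [← conj_zpow] at h2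
      have h3 := S.rel.xz_add S.hb (i : ZMod p) 1
      rw [pow_one, Nat.cast_one] at h3
      rw [h3] at h2
      rw [Nat.cast_succ, ← h2]
      group
    have h4 := S.conj_y i
    rw [ih (by omega), h1] at h4
    have h5 := congrArg (fun g => g ^ sgz ε) h4
    simp only [← zpow_mul, sgz_mul_self, zpow_one] at h5
    exact h5.symm

theorem Glue.π_y (i : ℕ) : S.π (S.y i) = tri (i : ZMod N) := by
  induction i with
  | zero => rw [Nat.cast_zero, S.y_zero, S.πx]
  | succ i ih =>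
    rw [S.y_succ, map_mul, map_mul, map_inv, map_zpow, ih, S.πc, ← conj_zpow, gam, conj_tri, ← zpow_mul,
      sgz_mul_self, zpow_one]
    simp

theorem Glue.lt_two_p (S : Glue (N := N) D e ε G) : N < 2 * p := by
  have := S.hk; have := S.hpN
  rcases S.he with h | h <;> omega

theorem Glue.y_N : S.y N = S.x := by
  have hk := S.hk
  have hpN := S.hpN
  have h3 := S.h3
  have he1 : 1 ≤ e := by rcases S.he with h | h <;> omega
  set k := N - p with hkdef
  set lo := p - e - k with hlodef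
  have hj : xz S.a S.x ((p - e : ℕ) : ZMod p) = S.y (p - e) := (S.y_eq_xz _ (by omega)).symm
  -- the second window
  have h1 : S.Qw * S.y (p - e) * S.Qw⁻¹ ∈ Subgroup.zpowers (S.y lo) := by
    obtain ⟨z, hz⟩ := S.qtri
    rw [← map_zpow] at hz
    refine ⟨z, ?_⟩
    rw [← hj, S.ext_H (mul_mem (mul_mem S.Qw_mem (S.xz_mem _)) (inv_mem S.Qw_mem))
      (zpow_mem (S.xz_mem _) _) hz, S.y_eq_xz lo (by omega)]
  have h2 : S.c ^ e * S.y (N - e) * (S.c ^ e)⁻¹ ∈ S.H := by
    rw [S.long, show N - e = k + (p - e) by omega, S.y_add]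
    have h3 : S.c ^ k * (S.Qw * S.y (p - e) ^ (sgz ε ^ k) * S.Qw⁻¹) * (S.c ^ k)⁻¹ ∈ S.H := by
      rw [← conj_zpow]
      obtain ⟨z, hz⟩ := h1
      rw [← hz, ← zpow_mul]
      have h4 : S.c ^ k * S.y lo * (S.c ^ k)⁻¹ ∈ S.H := by
        have h5 := S.y_add k lo
        rw [S.y_eq_xz (k + lo) (by omega)] at h5
        have h6 := congrArg (fun g => g ^ (sgz ε ^ k)) h5
        simp only [conj_zpow, ← zpow_mul, ← mul_pow, sgz_mul_self, one_pow, zpow_one] at h6
        rw [← h6]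
        exact zpow_mem (S.xz_mem _) _
      rw [← conj_zpow]
      exact zpow_mem h4 _
    rw [show S.Pw * (S.c ^ k * S.Qw * (S.c ^ k)⁻¹) * (S.c ^ k * S.y (p - e) ^ (sgz ε ^ k) * (S.c ^ k)⁻¹) *
        (S.Pw * (S.c ^ k * S.Qw * (S.c ^ k)⁻¹))⁻¹ =
      S.Pw * (S.c ^ k * (S.Qw * S.y (p - e) ^ (sgz ε ^ k) * S.Qw⁻¹) * (S.c ^ k)⁻¹) * S.Pw⁻¹ by group]
    exact mul_mem (mul_mem S.Pw_mem h3) (inv_mem S.Pw_mem)
  have h3' : S.y N ^ (sgz ε ^ e) = S.c ^ e * S.y (N - e) * (S.c ^ e)⁻¹ := by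
    have h7 := S.y_add e (N - e)
    rw [show e + (N - e) = N by omega] at h7
    rw [h7]
    rw [conj_zpow, ← zpow_mul, ← mul_pow, sgz_mul_self, one_pow, zpow_one]
  rw [← h3'] at h2
  have h4 : S.y N ^ (sgz ε ^ e) = S.x ^ (sgz ε ^ e) := by
    refine S.ext_H h2 (zpow_mem (by rw [← S.xz_zero]; exact S.xz_mem 0) _) ?_
    rw [map_zpow, map_zpow, S.π_y, S.πx, ZMod.natCast_self]
  have h5 := congrArg (fun g => g ^ (sgz ε ^ e)) h4
  simpa only [← zpow_mul, ← mul_pow, sgz_mul_self, one_pow, zpow_one] using h5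

theorem Glue.y_periodic (i : ℕ) : S.y (i + N) = S.y i := by
  rw [S.y_add, S.y_N]; rfl

theorem Glue.carRel : CarRel fun i : ZMod N => S.y i.val := by
  have hc := S.rel.carRel S.hb
  have hlt := S.lt_two_p
  have hd : ∀ d : ℕ, 0 < d → d < p → ∀ i, (S.y i * S.y (i + d)) ^ 2 = 1 := by
    intro d hd0 hdp i
    rw [S.y_add i d]
    have h0 : (d : ZMod p) ≠ 0 := by
      intro h
      have := Nat.le_of_dvd hd0 ((CharP.cast_eq_zero_iff (ZMod p) p d).1 h)
      omega
    have h1 : (S.x * S.y d) ^ 2 = 1 := by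
      have := hc.pair 0 (d : ZMod p) h0.symm
      rwa [S.xz_zero, ← S.y_eq_xz d hdp] at this
    have h2 : (S.y d * S.x) ^ 2 = 1 := by
      have := hc.pair (d : ZMod p) 0 h0
      rwa [S.xz_zero, ← S.y_eq_xz d hdp] at this
    show ((S.c ^ i * S.x ^ (sgz ε ^ i) * (S.c ^ i)⁻¹) * (S.c ^ i * S.y d ^ (sgz ε ^ i) * (S.c ^ i)⁻¹)) ^ 2 = 1
    rw [show (S.c ^ i * S.x ^ (sgz ε ^ i) * (S.c ^ i)⁻¹) * (S.c ^ i * S.y d ^ (sgz ε ^ i) * (S.c ^ i)⁻¹) =
      S.c ^ i * (S.x ^ (sgz ε ^ i) * S.y d ^ (sgz ε ^ i)) * (S.c ^ i)⁻¹ by group, conj_pow]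
    have h3 : (S.x ^ (sgz ε ^ i) * S.y d ^ (sgz ε ^ i)) ^ 2 = 1 := by
      rcases sgz_pow ε i with h | h <;> rw [h]
      · simpa using h1
      · rw [zpow_neg_one, zpow_neg_one, ← mul_inv_rev, inv_pow, h2, inv_one]
    rw [h3]; group
  have hflip : ∀ u v : G, (u * v) ^ 2 = 1 → (v * u) ^ 2 = 1 := fun u v h => by
    calc (v * u) ^ 2 = u⁻¹ * (u * v) ^ 2 * u := by simp only [pow_two]; group
      _ = 1 := by rw [h]; group
  have key : ∀ i j : ℕ, i < j → j < N → (S.y i * S.y j) ^ 2 = 1 := by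
    intro i j hij hjN
    by_cases h : j - i < p
    · have := hd (j - i) (by omega) h i
      rwa [show i + (j - i) = j by omega] at this
    · refine hflip _ _ ?_
      have := hd (i + N - j) (by omega) (by omega) j
      rwa [show j + (i + N - j) = i + N by omega, S.y_periodic] at this
  refine ⟨fun i => ?_, fun i j hij => ?_⟩
  · have hx : S.x ^ 3 = 1 := S.rel.cube_x S.hb
    rw [Glue.y, conj_pow, ← zpow_natCast (S.x ^ _) 3, ← zpow_mul, mul_comm, zpow_mul, zpow_natCast, hx, one_zpow]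
    group
  · have hne : i.val ≠ j.val := fun h => hij (ZMod.val_injective N h)
    rcases lt_or_gt_of_ne hne with h | h
    · exact key _ _ h (ZMod.val_lt j)
    · exact hflip _ _ (key _ _ h (ZMod.val_lt i))

theorem Glue.y_val (m : ℕ) : S.y m = S.y (m : ZMod N).val := by
  induction m using Nat.strong_induction_on with
  | _ m ih =>
    by_cases hm : m < N
    · rw [ZMod.val_cast_of_lt hm]
    · obtain ⟨t, rfl⟩ : ∃ t, m = t + N := ⟨m - N, by omega⟩
      rw [S.y_periodic, ih t (by have := Nat.pos_of_ne_zero (NeZero.ne N); omega)]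
      simp

/-- The main conclusion. -/
theorem Glue.concl : Function.Injective S.π ∧
    S.π.range = if e = 1 then alternatingGroup (ZMod N ⊕ Bool) else ⊤ := by
  classical
  obtain ⟨Ψ, hΨ, -⟩ := carmichael S.carRel
  set R := Ψ.range with hR
  haveI : Finite R := Finite.of_surjective _ Ψ.rangeRestrict_surjective
  have hπΨ : ∀ h, S.π (Ψ h) = ↑h := by
    intro h
    have : S.π.comp Ψ = (alternatingGroup (ZMod N ⊕ Bool)).subtype := hom_ext_tri fun i => by
      simp [hΨ, S.π_y]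
    exact DFunLike.congr_fun this h
  have hy : ∀ m, S.y m ∈ R := fun m => ⟨_, (hΨ (m : ZMod N)).trans (S.y_val m).symm⟩
  have hH : S.H ≤ R := by
    rw [Glue.H, Subgroup.closure_le]
    rintro _ ⟨i, rfl⟩
    rw [← ZMod.natCast_zmod_val i, ← S.y_eq_xz _ (ZMod.val_lt i)]
    exact hy _
  have ha : S.a ∈ R := hH (S.rel.a_mem S.hb)
  have hx : S.x ∈ R := by rw [← S.y_zero]; exact hy 0
  have hnorm : R.map (MulAut.conj S.c).toMonoidHom = R := by
    have hle : R.map (MulAut.conj S.c).toMonoidHom ≤ R := by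
      rw [Subgroup.map_le_iff_le_comap, hR]
      have hgen : Subgroup.closure (Set.range fun i : ZMod N =>
          (⟨tri i, tri_mem i⟩ : ↥(alternatingGroup (ZMod N ⊕ Bool)))) = ⊤ := by
        refine Subgroup.map_injective (alternatingGroup (ZMod N ⊕ Bool)).subtype_injective ?_
        rw [MonoidHom.map_closure, ← Set.range_comp, ← MonoidHom.range_eq_map, Subgroup.range_subtype]
        exact closure_tri
      rw [MonoidHom.range_eq_map, ← hgen, MonoidHom.map_closure, Subgroup.closure_le]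
      rintro _ ⟨_, ⟨i, rfl⟩, rfl⟩
      simp only [SetLike.mem_coe, Subgroup.mem_comap, hΨ, MulEquiv.coe_toMonoidHom, MulAut.conj_apply]
      rw [S.conj_y, ← MonoidHom.map_closure, hgen, ← MonoidHom.range_eq_map]
      exact zpow_mem (hy _) _
    exact Subgroup.eq_of_le_of_card_ge hle (Nat.card_congr
      (Subgroup.equivMapOfInjective R _ (MulAut.conj S.c).injective).toEquiv).le
  have hconj : ∀ m : ℕ, ∀ r ∈ R, S.c ^ m * r * (S.c ^ m)⁻¹ ∈ R := by
    intro m
    induction m with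
    | zero => simp
    | succ m ih =>
      intro r hr
      rw [pow_succ', show S.c * S.c ^ m * r * (S.c * S.c ^ m)⁻¹ = S.c * (S.c ^ m * r * (S.c ^ m)⁻¹) * S.c⁻¹ by group]
      rw [← hnorm]
      exact ⟨_, ih r hr, rfl⟩
  have hconj' : ∀ r ∈ R, S.c⁻¹ * r * S.c ∈ R := by
    intro r hr
    rw [← hnorm] at hr
    obtain ⟨r', hr', rfl⟩ := hr
    simpa [mul_assoc] using hr'
  have hce : S.c ^ e ∈ R := by
    rw [S.long]; exact mul_mem (hH S.Pw_mem) (hconj _ _ (hH S.Qw_mem))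
  have hcover : ∀ g : G, g ∈ R ∨ (e = 2 ∧ S.c⁻¹ * g ∈ R) := by
    intro g
    have hg : g ∈ Subgroup.closure ({S.a, S.x, S.c} : Set G) := by rw [S.gen]; trivial
    have hr : ∀ r ∈ R, ∀ g, (g ∈ R ∨ (e = 2 ∧ S.c⁻¹ * g ∈ R)) → (r * g ∈ R ∨ (e = 2 ∧ S.c⁻¹ * (r * g) ∈ R)) := by
      intro r hr g hg
      rcases hg with hg | ⟨h2, hg⟩
      · exact Or.inl (mul_mem hr hg)
      · refine Or.inr ⟨h2, ?_⟩
        rw [show S.c⁻¹ * (r * g) = (S.c⁻¹ * r * S.c) * (S.c⁻¹ * g) by group]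
        exact mul_mem (hconj' r hr) hg
    have hc : ∀ g, (g ∈ R ∨ (e = 2 ∧ S.c⁻¹ * g ∈ R)) → (S.c * g ∈ R ∨ (e = 2 ∧ S.c⁻¹ * (S.c * g) ∈ R)) := by
      intro g' hg'
      rcases hg' with hg' | ⟨h2, hg'⟩
      · rcases S.he with h1 | h2
        · subst h1
          rw [pow_one] at hce
          exact Or.inl (mul_mem hce hg')
        · exact Or.inr ⟨h2, by rwa [inv_mul_cancel_left]⟩
      · refine Or.inl ?_
        subst h2
        rw [show S.c * g' = S.c ^ 2 * (S.c⁻¹ * g') by group]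
        exact mul_mem hce hg'
    induction hg using Subgroup.closure_induction_left with
    | one => exact Or.inl (one_mem _)
    | mul_left z hz g _ ih =>
      simp only [Set.mem_insert_iff, Set.mem_singleton_iff] at hz
      rcases hz with rfl | rfl | rfl
      exacts [hr _ ha g ih, hr _ hx g ih, hc g ih]
    | inv_mul_cancel z hz g _ ih =>
      simp only [Set.mem_insert_iff, Set.mem_singleton_iff] at hz
      rcases hz with rfl | rfl | rfl
      · exact hr _ (inv_mem ha) g ih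
      · exact hr _ (inv_mem hx) g ih
      · rcases S.he with h1 | h2
        · subst h1
          rw [pow_one] at hce
          exact hr _ (inv_mem hce) g ih
        · subst h2
          rw [show S.c⁻¹ * g = (S.c ^ 2)⁻¹ * (S.c * g) by group]
          exact hr _ (inv_mem hce) _ (hc g ih)
  have hsignR : ∀ r ∈ R, sign (S.π r) = 1 := by
    rintro _ ⟨h, rfl⟩
    rw [hπΨ]
    exact Perm.mem_alternatingGroup.1 h.2
  have hodd : ∀ g : G, e = 2 → S.c⁻¹ * g ∈ R → sign (S.π g) = -1 := by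
    intro g h2 hg
    have hpar := S.parity
    rw [if_neg (by omega), ← S.πc] at hpar
    rw [show g = S.c * (S.c⁻¹ * g) by group, map_mul, map_mul, hsignR _ hg, hpar, mul_one]
  refine ⟨(injective_iff_map_eq_one _).2 fun g hg => ?_, le_antisymm ?_ ?_⟩
  · rcases hcover g with h | ⟨h2, h⟩
    · obtain ⟨h', rfl⟩ := h
      rw [hπΨ] at hg
      rw [show h' = 1 from Subtype.ext hg, map_one]
    · have := hodd g h2 h
      rw [hg, map_one] at this
      exact absurd this (by decide)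
  · split
    · rename_i h1
      rintro _ ⟨g, rfl⟩
      rcases hcover g with h | ⟨h2, _⟩
      · exact Perm.mem_alternatingGroup.2 (hsignR g h)
      · omega
    · exact le_top
  · have hA : alternatingGroup (ZMod N ⊕ Bool) ≤ S.π.range := fun f hf => ⟨Ψ ⟨f, hf⟩, hπΨ _⟩
    split
    · exact hA
    · rename_i h1
      intro f _
      rcases Int.units_eq_one_or (sign f) with h | h
      · exact hA (Perm.mem_alternatingGroup.2 h)
      · have hpar := S.parity
        rw [if_neg h1] at hpar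
        have h2 : f * (gam N ε)⁻¹ ∈ alternatingGroup (ZMod N ⊕ Bool) := by
          rw [Perm.mem_alternatingGroup, map_mul, map_inv, h, hpar]; rfl
        obtain ⟨g, hg⟩ := hA h2
        exact ⟨g * S.c, by rw [map_mul, hg, S.πc, inv_mul_cancel_right]⟩

end Cfsg.Lib.PresSymAlt
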