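import Cfsg.Agent.Lib.PresSymAlt.Glue

/-!
# Presentations of symmetric and alternating groups with three generators and seven relations
-/

set_option autoImplicit false
set_option linter.unusedSectionVars false
set_option linter.style.haveILetI false

namespace Cfsg.Lib.PresSymAlt

open Equiv Equiv.Perm

theorem map_xz {G G' : Type*} [Group G] [Group G'] {p : ℕ} [Fact p.Prime] (φ : G →* G') (a x : G) (i : ZMod p) :
    φ (xz a x i) = xz (φ a) (φ x) i := by
  simp [xz]

theorem map_closure_xz {G G' : Type*} [Group G] [Group G'] {p : ℕ} [Fact p.Prime] (φ : G →* G') (a x : G) {g : G}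
    (hg : g ∈ Subgroup.closure (Set.range (xz (p := p) a x))) :
    φ g ∈ Subgroup.closure (Set.range (xz (p := p) (φ a) (φ x))) := by
  have h := Subgroup.mem_map_of_mem φ hg
  rw [MonoidHom.map_closure, ← Set.range_comp] at h
  simpa [Function.comp_def, map_xz] using h

theorem aPerm_pow {p : ℕ} (m : ℕ) : aPerm p ^ m = Equiv.sumCongr (Equiv.addRight (m : ZMod p)) (bs false) := by
  induction m with
  | zero => ext z; rcases z with z | z <;> simp [bs]
  | succ m ih =>
    rw [pow_succ, ih, aPerm, gam]
    ext z; rcases z with z | z <;> simp [bs, add_comm]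

variable {p N : ℕ} [Fact p.Prime] [NeZero N] (hpN : p ≤ N)

theorem xz_model (i : ZMod p) : xz (upHom hpN (aPerm p)) (tri (0 : ZMod N)) i = upHom hpN (tri i) := by
  have h0 : upHom (N := N) hpN (tri (0 : ZMod p)) = tri (0 : ZMod N) := by
    rw [upHom_tri, ZMod.val_zero, Nat.cast_zero]
  rw [xz, ← h0, ← map_pow, ← map_inv, ← map_mul, ← map_mul]
  congr 1
  rw [aPerm_pow, conj_tri]
  simp [sgz]

theorem sign_mulLeft_gen (D : RootData p) (h3 : 3 ≤ p) : sign (Equiv.mulLeft₀ D.r D.ne_zero) = -1 := by
  classical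
  set f := Equiv.mulLeft₀ D.r D.ne_zero with hf
  have hpow : ∀ (k : ℕ) (z : ZMod p), (f ^ k) z = D.r ^ k * z := by
    intro k
    induction k with
    | zero => simp
    | succ k ih => intro z; rw [pow_succ', Perm.mul_apply, ih]; show D.r * _ = _; rw [pow_succ', mul_assoc]
  have hcyc : f.IsCycle := by
    refine ⟨1, ?_, fun y hy => ?_⟩
    · show D.r * 1 ≠ 1
      rw [mul_one]; exact D.ne_one
    · have hy0 : y ≠ 0 := fun h => hy (by subst h; show D.r * 0 = 0; rw [mul_zero])
      obtain ⟨k, hk⟩ := D.gen y hy0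
      exact ⟨k, by rw [zpow_natCast, hpow, mul_one, hk]⟩
  have hsupp : f.support = Finset.univ.erase 0 := by
    ext z
    simp only [Perm.mem_support, Finset.mem_erase, Finset.mem_univ, and_true]
    show D.r * z ≠ z ↔ z ≠ 0
    constructor
    · rintro h rfl; exact h (mul_zero _)
    · intro h h'
      exact D.ne_one (mul_right_cancel₀ h (by rw [h', one_mul]))
  rw [hcyc.sign, hsupp, Finset.card_erase_of_mem (Finset.mem_univ _), Finset.card_univ, ZMod.card]
  obtain ⟨t, rfl⟩ := (Fact.out : p.Prime).odd_of_ne_two (by omega)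
  simp [pow_mul]

/-- A presentation with three generators and seven relations, in which two generators suffice. -/
def Pres3 (T : Type*) [Group T] : Prop :=
  ∃ R : Finset (FreeGroup (Fin 3)), R.card ≤ 7 ∧
    Nonempty (PresentedGroup (↑R : Set (FreeGroup (Fin 3))) ≃* T) ∧
    Subgroup.closure ({PresentedGroup.of 1, PresentedGroup.of 2} : Set (PresentedGroup (↑R : Set (FreeGroup (Fin 3))))) = ⊤

theorem Pres3.congr {T T' : Type*} [Group T] [Group T'] (h : Pres3 T) (e : T ≃* T') : Pres3 T' := by
  obtain ⟨R, hR, ⟨φ⟩, h2⟩ := h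
  exact ⟨R, hR, ⟨φ.trans e⟩, h2⟩

theorem pres3_perm (hpN : p ≤ N) (h3 : 3 ≤ p) {e : ℕ} (he : e = 1 ∨ e = 2) (hk : N - p + e ≤ p) (ε : Bool)
    (hpar : sign (gam N ε) = if e = 1 then 1 else -1) :
    Pres3 ↥(if e = 1 then alternatingGroup (ZMod N ⊕ Bool) else ⊤ : Subgroup (Perm (ZMod N ⊕ Bool))) := by
  classical
  obtain ⟨D⟩ := exists_rootData (p := p) h3
  set am : Perm (ZMod N ⊕ Bool) := upHom hpN (aPerm p) with hamdef
  let v : FreeGroup (Fin 3) →* Perm (ZMod N ⊕ Bool) := FreeGroup.lift ![am, tri 0, gam N ε]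
  set A : FreeGroup (Fin 3) := FreeGroup.of 0
  set X : FreeGroup (Fin 3) := FreeGroup.of 1
  set C : FreeGroup (Fin 3) := FreeGroup.of 2
  have hvA : v A = am := by simp [v, A]
  have hvX : v X = tri 0 := by simp [v, X]
  have hvC : v C = gam N ε := by simp [v, C]
  have hvxz : ∀ i : ZMod p, v (xz A X i) = upHom hpN (tri i) := fun i => by
    rw [map_xz, hvA, hvX, hamdef, xz_model]
  have hword : ∀ f : Perm (ZMod p ⊕ Bool), sign f = 1 →
      ∃ w ∈ Subgroup.closure (Set.range (xz (p := p) A X)), v w = upHom hpN f := by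
    intro f hf
    have h : (Subgroup.closure (Set.range (xz (p := p) A X))).map v =
        (alternatingGroup (ZMod p ⊕ Bool)).map (upHom hpN) := by
      rw [MonoidHom.map_closure, ← closure_tri, MonoidHom.map_closure, ← Set.range_comp, ← Set.range_comp]
      exact congrArg _ (congrArg Set.range (funext hvxz))
    have hm : upHom hpN f ∈ (Subgroup.closure (Set.range (xz (p := p) A X))).map v := by
      rw [h]; exact Subgroup.mem_map_of_mem _ (Perm.mem_alternatingGroup.2 hf)
    obtain ⟨w, hw, hwv⟩ := hm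
    exact ⟨w, hw, hwv⟩
  set β : Perm (ZMod p ⊕ Bool) := Equiv.sumCongr (Equiv.mulLeft₀ D.r D.ne_zero) (bs true) with hβ
  obtain ⟨B, hB, hvB⟩ := hword β (by
    rw [hβ, Perm.sign_sumCongr, sign_mulLeft_gen D h3, sign_bs]; rfl)
  obtain ⟨Gw, hGw, hvGw⟩ := hword (gPerm p) (sign_gPerm h3)
  obtain ⟨P, Q, hPs, hQs, ⟨δ, hQtri⟩, hlong⟩ := exists_windows hpN h3 he hk ε (by
    rw [hpar]; rcases he with rfl | rfl <;> decide)
  obtain ⟨Pw, hPw, hvPw⟩ := hword P hPs
  obtain ⟨Qw, hQw, hvQw⟩ := hword Q hQs
  set k := N - p with hkdef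
  let r1 := A ^ p * (X ^ 3)⁻¹
  let r2 := B * A ^ D.s * B⁻¹ * (A ^ (D.s - 1))⁻¹
  let r3 := B * X * B⁻¹ * X
  let r4 := (X * (A * X * A⁻¹)) ^ 2
  let r5 := A⁻¹ * C * X * (A⁻¹ * C)⁻¹ * (X ^ sgz ε)⁻¹
  let r6 := A⁻¹ * C * Gw * (A⁻¹ * C)⁻¹ * Gw⁻¹
  let r7 := C ^ e * (Pw * (C ^ k * Qw * (C ^ k)⁻¹))⁻¹
  let R : Finset (FreeGroup (Fin 3)) := {r1, r2, r3, r4, r5, r6, r7}
  have hβx : β * tri (0 : ZMod p) * β⁻¹ = (tri 0)⁻¹ := by
    rw [hβ, conj_tri, sgz, if_pos rfl, zpow_neg_one]; simp
  have ha1 : am * tri (0 : ZMod N) * am⁻¹ = tri (1 : ZMod N) := by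
    have h := xz_model hpN (1 : ZMod p)
    rw [xz, ZMod.val_one, pow_one, upHom_tri, ZMod.val_one, Nat.cast_one] at h
    exact h
  have hrels : ∀ r ∈ (↑R : Set (FreeGroup (Fin 3))), v r = 1 := by
    intro r hr
    simp only [R, Finset.coe_insert, Finset.coe_singleton, Set.mem_insert_iff, Set.mem_singleton_iff] at hr
    rcases hr with rfl | rfl | rfl | rfl | rfl | rfl | rfl
    · simp only [r1, map_mul, map_inv, map_pow, hvA, hvX]
      rw [hamdef, ← map_pow, aPerm_pow, ZMod.natCast_self, (tri_carRel (I := ZMod N)).cube 0]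
      have : Equiv.sumCongr (Equiv.addRight (0 : ZMod p)) (bs false) = (1 : Perm (ZMod p ⊕ Bool)) := by
        ext z; rcases z with z | z <;> simp [bs]
      rw [this, map_one, inv_one, mul_one]
    · simp only [r2, map_mul, map_inv, map_pow, hvA, hvB, hamdef]
      simp only [← map_pow, ← map_inv, ← map_mul]
      convert map_one (upHom (N := N) hpN)
      rw [mul_inv_eq_one, mul_inv_eq_iff_eq_mul, aPerm_pow, aPerm_pow]
      have := D.eqn
      ext z
      rcases z with z | z
      · simp only [hβ, Perm.mul_apply, Equiv.sumCongr_apply, Sum.map_inl, Equiv.coe_addRight]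
        congr 1
        show D.r * (z + _) = D.r * z + _
        rw [mul_add, ← this, mul_comm D.r (D.s : ZMod p)]
      · simp [hβ, bs]
    · simp only [r3, map_mul, map_inv, hvX, hvB]
      have h0 : upHom (N := N) hpN (tri (0 : ZMod p)) = tri (0 : ZMod N) := by
        rw [upHom_tri, ZMod.val_zero, Nat.cast_zero]
      rw [← h0, ← map_inv, ← map_mul, ← map_mul, hβx, map_inv, inv_mul_cancel]
    · simp only [r4, map_mul, map_inv, map_pow, hvA, hvX]
      rw [ha1]
      haveI : Fact (1 < N) := ⟨by omega⟩
      exact (tri_carRel (I := ZMod N)).pair 0 1 zero_ne_one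
    · simp only [r5, map_mul, map_inv, map_zpow, hvA, hvX, hvC, mul_inv_eq_one]
      have h : gam N ε * tri (0 : ZMod N) * (gam N ε)⁻¹ = tri (1 : ZMod N) ^ sgz ε := by
        rw [gam, conj_tri]; simp
      calc am⁻¹ * gam N ε * tri (0 : ZMod N) * (am⁻¹ * gam N ε)⁻¹
          = am⁻¹ * (gam N ε * tri (0 : ZMod N) * (gam N ε)⁻¹) * (am⁻¹)⁻¹ := by group
        _ = (am⁻¹ * tri (1 : ZMod N) * (am⁻¹)⁻¹) ^ sgz ε := by rw [h, ← conj_zpow]
        _ = _ := by rw [← ha1]; congr 1; group
    · simp only [r6, map_mul, map_inv, hvA, hvC, hvGw, mul_inv_eq_one]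
      rw [mul_inv_eq_iff_eq_mul]
      set u := am⁻¹ * gam N ε with hu
      set g := upHom (N := N) hpN (gPerm p) with hg
      have hgood : ∀ j : ZMod p, j ≠ -1 → u (win hpN (.inl j)) = win hpN (.inl j) := by
        intro j hj
        have hjv : j.val + 1 < p := by
          have h1 := ZMod.val_lt j
          by_contra h
          refine hj ?_
          rw [eq_neg_iff_add_eq_zero, ← ZMod.natCast_zmod_val j, ← Nat.cast_one, ← Nat.cast_add,
            show j.val + 1 = p by omega, ZMod.natCast_self]
        rw [hu, Perm.mul_apply, Perm.inv_eq_iff_eq, hamdef, upHom_apply]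
        show gam N ε (.inl ((j.val : ℕ) : ZMod N)) = win hpN (.inl (j + 1))
        rw [gam_inl]
        show _ = Sum.inl (((j + 1).val : ℕ) : ZMod N)
        rw [ZMod.val_add, ZMod.val_one, Nat.mod_eq_of_lt hjv, Nat.cast_succ]
      have hm1 : gPerm p (.inl (-1)) = .inl (-1) := by
        simp only [gPerm, Equiv.sumCongr_apply, Sum.map_inl, Perm.mul_apply, swap_apply_right,
          Equiv.coe_addRight]
        congr 1
        ring
      have hgfix : ∀ i : ZMod N, (∀ j : ZMod p, j ≠ -1 → Sum.inl i ≠ win hpN (.inl j)) → g (.inl i) = .inl i := by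
        intro i hi
        rcases range_win hpN (z := (Sum.inl i : ZMod N ⊕ Bool)) with ⟨w, hw⟩ | ⟨i', h, hi'⟩
        · rcases w with j | b
          · have hj : j = -1 := by
              by_contra hj; exact hi j hj hw.symm
            rw [← hw, hg, upHom_apply, hj, hm1]
          · exact absurd hw (by simp [win])
        · rw [h, hg, upHom_fix hpN _ hi']
      have hubool : ∀ b, u (.inr b) = .inr (bs ε b) := by
        intro b
        rw [hu, Perm.mul_apply, Perm.inv_eq_iff_eq, hamdef]
        show (Sum.inr (bs ε b) : ZMod N ⊕ Bool) = upHom hpN (aPerm p) (win hpN (.inr (bs ε b)))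
        rw [upHom_apply]
        rfl
      refine Equiv.ext fun z => ?_
      show u (g z) = g (u z)
      rcases z with i | b
      · by_cases hi : ∃ j : ZMod p, j ≠ -1 ∧ Sum.inl i = win hpN (.inl j)
        · obtain ⟨j, hj, hij⟩ := hi
          rw [hij, hgood j hj, hg, upHom_apply]
          have hne : gPerm p (.inl j) ≠ .inl (-1) := by
            rw [← hm1]; exact fun h => hj (Sum.inl_injective ((gPerm p).injective h))
          rcases hgj : gPerm p (.inl j) with j' | b'
          · rw [hgj] at hne
            exact hgood j' fun h => hne (by rw [h])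
          · exact absurd hgj (by simp [gPerm])
        · push Not at hi
          rw [hgfix i hi]
          rcases hz : u (.inl i) with i' | b
          · refine (hgfix i' fun j hj h => ?_).symm
            have : u (.inl i) = u (win hpN (.inl j)) := by rw [hz, hgood j hj, h]
            exact hi j hj (u.injective this)
          · exfalso
            have : u (.inl i) = u (.inr (bs ε b)) := by
              rw [hz, hubool]; cases ε <;> cases b <;> rfl
            exact absurd (u.injective this) (by simp)
      · have hgb : ∀ c : Bool, g (.inr c) = .inr (bs true c) := by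
          intro c
          show g (win hpN (.inr c)) = _
          rw [hg, upHom_apply]; rfl
        rw [hgb, hubool, hubool, hgb]
        cases ε <;> cases b <;> rfl
    · simp only [r7, map_mul, map_inv, map_pow, hvC, hvPw, hvQw, mul_inv_eq_one]
      exact hlong
  let π : PresentedGroup (↑R : Set (FreeGroup (Fin 3))) →* Perm (ZMod N ⊕ Bool) :=
    PresentedGroup.toGroup (f := ![am, tri 0, gam N ε]) hrels
  let mk := PresentedGroup.mk (↑R : Set (FreeGroup (Fin 3)))
  have hπ : ∀ w, π (mk w) = v w := fun w => by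
    have : π.comp mk = v := by
      refine FreeGroup.ext_hom _ _ fun i => ?_
      show π (PresentedGroup.of i) = _
      rw [PresentedGroup.toGroup.of]
      simp [v]
    exact DFunLike.congr_fun this w
  have hrel : ∀ r ∈ R, mk r = 1 := fun r hr => PresentedGroup.one_of_mem hr
  let S : Glue (N := N) D e ε (PresentedGroup (↑R : Set (FreeGroup (Fin 3)))) :=
  { π := π
    hpN := hpN
    h3 := h3
    he := he
    hk := hk
    parity := hpar
    a := mk A
    x := mk X
    c := mk C
    b := mk B
    gw := mk Gw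
    Pw := mk Pw
    Qw := mk Qw
    gen := by
      refine eq_top_iff.2 ?_
      rw [← PresentedGroup.closure_range_of, Subgroup.closure_le]
      rintro _ ⟨i, rfl⟩
      refine Subgroup.subset_closure ?_
      fin_cases i <;> simp [mk, A, X, C, PresentedGroup.of]
    πa := by rw [hπ, hvA]
    πx := by rw [hπ, hvX]
    πc := by rw [hπ, hvC]
    hb := map_closure_xz mk A X hB
    rel :=
      { central := by
          have h := hrel r1 (by simp [R])
          simpa [r1, mul_inv_eq_one] using h
        conj := by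
          have h := hrel r2 (by simp [R])
          simpa [r2, mul_inv_eq_one] using h
        invert := by
          have h := hrel r3 (by simp [R])
          exact eq_inv_of_mul_eq_one_left (by simpa [r3] using h)
        pair := by
          have h := hrel r4 (by simp [R])
          simpa [r4] using h }
    gw_mem := map_closure_xz mk A X hGw
    Pw_mem := map_closure_xz mk A X hPw
    Qw_mem := map_closure_xz mk A X hQw
    πgw := by rw [hπ, hvGw]
    qtri := ⟨sgz δ, by
      rw [← map_xz mk, ← map_xz mk, ← map_inv, ← map_mul, ← map_mul, hπ, hπ, map_mul, map_mul, map_inv,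
        hvQw, hvxz, hvxz, ← map_inv, ← map_mul, ← map_mul, hQtri, map_zpow]⟩
    shift_x := by
      have h := hrel r5 (by simp [R])
      simpa [r5, mul_inv_eq_one, map_zpow] using h
    shift_g := by
      have h := hrel r6 (by simp [R])
      simpa [r6, mul_inv_eq_one] using h
    long := by
      have h := hrel r7 (by simp [R])
      exact mul_inv_eq_one.1 (by simpa only [r7, map_mul, map_inv, map_pow] using h) }
  obtain ⟨hinj, hrange⟩ := S.concl
  refine ⟨R, ?_, ⟨(MonoidHom.ofInjective hinj).trans (MulEquiv.subgroupCongr hrange)⟩, ?_⟩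
  · simp only [R]
    repeat' refine (Finset.card_insert_le _ _).trans (Nat.succ_le_succ ?_)
    simp
  · refine eq_top_iff.2 ?_
    rw [← S.gen, Subgroup.closure_le]
    have hsub : ({mk X, mk C} : Set (PresentedGroup (↑R : Set (FreeGroup (Fin 3))))) =
        {PresentedGroup.of 1, PresentedGroup.of 2} := rfl
    rw [← hsub]
    intro z hz
    simp only [Set.mem_insert_iff, Set.mem_singleton_iff] at hz
    rcases hz with rfl | rfl | rfl
    · set K := Subgroup.closure ({mk X, mk C} : Set (PresentedGroup (↑R : Set (FreeGroup (Fin 3))))) with hK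
      have hxK : S.x ∈ K := Subgroup.subset_closure (by simp [S])
      have hcK : S.c ∈ K := Subgroup.subset_closure (by simp [S])
      have hA : alternatingGroup (ZMod N ⊕ Bool) ≤ K.map S.π := by
        rw [← closure_tri, Subgroup.closure_le]
        rintro _ ⟨i, rfl⟩
        refine ⟨S.y i.val, mul_mem (mul_mem (pow_mem hcK _) (zpow_mem hxK _)) (inv_mem (pow_mem hcK _)), ?_⟩
        rw [S.π_y, ZMod.natCast_zmod_val]
      have hmem : S.π S.a ∈ K.map S.π := hA (by
        rw [Perm.mem_alternatingGroup, S.πa, sign_upHom, sign_aPerm h3])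
      obtain ⟨g, hg, hga⟩ := hmem
      rw [← hinj hga]
      exact hg
    · exact Subgroup.subset_closure (Or.inl rfl)
    · exact Subgroup.subset_closure (Or.inr rfl)

end Cfsg.Lib.PresSymAlt
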