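import Mathlib

/-!
# Changing the generators of a finite presentation
-/

set_option autoImplicit false

namespace Cfsg.Lib.PresSymAlt

variable {ι κ : Type*} {T : Type*} [Group T]

/-- Tietze transformation: new generators `h`, expressed through `u` and `w`. -/
theorem presentation_change {R : Set (FreeGroup ι)} (φ : PresentedGroup R ≃* T) (h : κ → T)
    (u : ι → FreeGroup κ) (hu : ∀ i, FreeGroup.lift h (u i) = φ (PresentedGroup.of i))
    (w : κ → FreeGroup ι) (hw : ∀ j, φ (PresentedGroup.mk R (w j)) = h j)
    (R' : Set (FreeGroup κ)) (hsound : ∀ r ∈ R', FreeGroup.lift h r = 1)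
    (hold : ∀ r ∈ R, PresentedGroup.mk R' (FreeGroup.lift u r) = 1)
    (hnew : ∀ j, PresentedGroup.mk R' (FreeGroup.lift u (w j)) = PresentedGroup.of j) :
    ∃ e : PresentedGroup R' ≃* T, ∀ j, e (PresentedGroup.of j) = h j := by
  let π : PresentedGroup R' →* T := PresentedGroup.toGroup hsound
  have hπ : π.comp (PresentedGroup.mk R') = FreeGroup.lift h :=
    FreeGroup.ext_hom _ _ fun j => by
      show π (PresentedGroup.of j) = _
      rw [PresentedGroup.toGroup.of, FreeGroup.lift_apply_of]
  have hcomp : FreeGroup.lift (fun i => PresentedGroup.mk R' (u i)) = (PresentedGroup.mk R').comp (FreeGroup.lift u) :=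
    FreeGroup.ext_hom _ _ fun i => by simp
  let ψ : PresentedGroup R →* PresentedGroup R' :=
    PresentedGroup.toGroup (f := fun i => PresentedGroup.mk R' (u i)) fun r hr => by
      rw [hcomp]; exact hold r hr
  have hψ : ψ.comp (PresentedGroup.mk R) = (PresentedGroup.mk R').comp (FreeGroup.lift u) := by
    rw [← hcomp]
    exact FreeGroup.ext_hom _ _ fun i => by
      show ψ (PresentedGroup.of i) = _
      rw [PresentedGroup.toGroup.of, FreeGroup.lift_apply_of]
  have h1 : (ψ.comp φ.symm.toMonoidHom).comp π = MonoidHom.id _ := by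
    refine PresentedGroup.ext fun j => ?_
    show ψ (φ.symm (π (PresentedGroup.of j))) = PresentedGroup.of j
    rw [PresentedGroup.toGroup.of, ← hw j, MulEquiv.symm_apply_apply]
    exact (DFunLike.congr_fun hψ (w j)).trans (hnew j)
  have h2 : π.comp (ψ.comp φ.symm.toMonoidHom) = MonoidHom.id _ := by
    have h3 : π.comp ψ = φ.toMonoidHom := by
      refine PresentedGroup.ext fun i => ?_
      show π (ψ (PresentedGroup.of i)) = φ (PresentedGroup.of i)
      rw [PresentedGroup.toGroup.of, ← hu i]
      exact DFunLike.congr_fun hπ (u i)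
    ext t
    show π (ψ (φ.symm t)) = t
    have := DFunLike.congr_fun h3 (φ.symm t)
    simpa using this
  exact ⟨MonoidHom.toMulEquiv π (ψ.comp φ.symm.toMonoidHom) h1 h2, fun j => PresentedGroup.toGroup.of hsound⟩

theorem exists_lift_eq (h : κ → T) (hgen : Subgroup.closure (Set.range h) = ⊤) (t : T) :
    ∃ v : FreeGroup κ, FreeGroup.lift h v = t := by
  rw [← MonoidHom.mem_range, FreeGroup.range_lift_eq_closure, hgen]
  trivial

/-- A presentation on new generators, with one more relator for each new generator. -/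
theorem presentation_transfer [DecidableEq ι] [DecidableEq κ] [Fintype κ] (R : Finset (FreeGroup ι))
    (φ : PresentedGroup (↑R : Set (FreeGroup ι)) ≃* T) (h : κ → T)
    (hgen : Subgroup.closure (Set.range h) = ⊤) :
    ∃ R' : Finset (FreeGroup κ), R'.card ≤ R.card + Fintype.card κ ∧
      ∃ e : PresentedGroup (↑R' : Set (FreeGroup κ)) ≃* T, ∀ j, e (PresentedGroup.of j) = h j := by
  classical
  choose u hu using fun i => exists_lift_eq h hgen (φ (PresentedGroup.of i))
  choose w hw using fun j => PresentedGroup.mk_surjective (↑R : Set (FreeGroup ι)) (φ.symm (h j))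
  have hw' : ∀ j, φ (PresentedGroup.mk _ (w j)) = h j := fun j => by rw [hw, MulEquiv.apply_symm_apply]
  have hcomp : (FreeGroup.lift h).comp (FreeGroup.lift u) = φ.toMonoidHom.comp (PresentedGroup.mk _) :=
    FreeGroup.ext_hom _ _ fun i => by
      show FreeGroup.lift h (FreeGroup.lift u (FreeGroup.of i)) = _
      rw [FreeGroup.lift_apply_of, hu]; rfl
  let R' : Finset (FreeGroup κ) := R.image (FreeGroup.lift u) ∪
    Finset.univ.image (fun j => FreeGroup.lift u (w j) * (FreeGroup.of j)⁻¹)
  refine ⟨R', ?_, presentation_change φ h u hu w hw' _ ?_ ?_ ?_⟩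
  · exact (Finset.card_union_le _ _).trans
      (Nat.add_le_add Finset.card_image_le (Finset.card_image_le.trans (le_of_eq Finset.card_univ)))
  · intro r hr
    rcases Finset.mem_union.1 (Finset.mem_coe.1 hr) with hr | hr <;> obtain ⟨q, hq, rfl⟩ := Finset.mem_image.1 hr
    · refine (DFunLike.congr_fun hcomp q).trans ?_
      show φ (PresentedGroup.mk _ q) = 1
      rw [PresentedGroup.one_of_mem (Finset.mem_coe.2 hq), map_one]
    · rw [map_mul, map_inv, FreeGroup.lift_apply_of, mul_inv_eq_one]
      exact (DFunLike.congr_fun hcomp (w q)).trans (hw' q)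
  · exact fun r hr => PresentedGroup.one_of_mem
      (Finset.mem_coe.2 (Finset.mem_union_left _ (Finset.mem_image_of_mem _ (Finset.mem_coe.1 hr))))
  · intro j
    have : PresentedGroup.mk (↑R' : Set (FreeGroup κ)) (FreeGroup.lift u (w j) * (FreeGroup.of j)⁻¹) = 1 :=
      PresentedGroup.one_of_mem
        (Finset.mem_coe.2 (Finset.mem_union_right _ (Finset.mem_image_of_mem _ (Finset.mem_univ j))))
    rw [map_mul, map_inv, mul_inv_eq_one] at this
    exact this

/-- Dropping redundant generators costs no relators. -/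
theorem presentation_restrict [DecidableEq ι] [DecidableEq κ] (R : Finset (FreeGroup ι))
    (φ : PresentedGroup (↑R : Set (FreeGroup ι)) ≃* T) (σ : κ → ι) (hσ : Function.Injective σ)
    (hgen : Subgroup.closure (Set.range fun j => PresentedGroup.of (rels := (↑R : Set (FreeGroup ι))) (σ j)) = ⊤) :
    ∃ R' : Finset (FreeGroup κ), R'.card ≤ R.card ∧ Nonempty (PresentedGroup (↑R' : Set (FreeGroup κ)) ≃* T) := by
  classical
  set h : κ → T := fun j => φ (PresentedGroup.of (σ j)) with hh
  have hgen' : Subgroup.closure (Set.range h) = ⊤ := by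
    have := congrArg (Subgroup.map φ.toMonoidHom) hgen
    rw [MonoidHom.map_closure, ← Set.range_comp, Subgroup.map_top_of_surjective _ φ.surjective] at this
    exact this
  choose u0 hu0 using fun i => exists_lift_eq h hgen' (φ (PresentedGroup.of i))
  let u : ι → FreeGroup κ := fun i => if hi : ∃ j, σ j = i then FreeGroup.of hi.choose else u0 i
  have huσ : ∀ j, u (σ j) = FreeGroup.of j := fun j => by
    have he : ∃ j', σ j' = σ j := ⟨j, rfl⟩
    simp only [u, dif_pos he, hσ he.choose_spec]
  have hu : ∀ i, FreeGroup.lift h (u i) = φ (PresentedGroup.of i) := fun i => by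
    by_cases hi : ∃ j, σ j = i
    · obtain ⟨j, rfl⟩ := hi; rw [huσ, FreeGroup.lift_apply_of]
    · simp only [u, dif_neg hi, hu0]
  have hcomp : (FreeGroup.lift h).comp (FreeGroup.lift u) = φ.toMonoidHom.comp (PresentedGroup.mk _) :=
    FreeGroup.ext_hom _ _ fun i => by
      show FreeGroup.lift h (FreeGroup.lift u (FreeGroup.of i)) = _
      rw [FreeGroup.lift_apply_of, hu]; rfl
  obtain ⟨e, -⟩ := presentation_change φ h u hu (fun j => FreeGroup.of (σ j)) (fun j => rfl)
    (↑(R.image (FreeGroup.lift u)) : Set (FreeGroup κ)) (fun r hr => by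
      obtain ⟨q, hq, rfl⟩ := Finset.mem_image.1 (Finset.mem_coe.1 hr)
      refine (DFunLike.congr_fun hcomp q).trans ?_
      show φ (PresentedGroup.mk _ q) = 1
      rw [PresentedGroup.one_of_mem (Finset.mem_coe.2 hq), map_one])
    (fun r hr => PresentedGroup.one_of_mem (Finset.mem_coe.2 (Finset.mem_image_of_mem _ (Finset.mem_coe.1 hr))))
    (fun j => by rw [FreeGroup.lift_apply_of, huσ]; rfl)
  exact ⟨_, Finset.card_image_le, ⟨e⟩⟩

end Cfsg.Lib.PresSymAlt
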